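import Cfsg.Agent.Lib.ES.Z1

/-!
# DB: doubling of the long root groups of a (twisted) standard subgroup `L` in characteristic two.  See `docs/OM.md`.
`C` is the Chevalley system of the long roots, `C.grp ≤ L`.  Port of `ES/Z1`-`Z3` with `C₀(a) = C_L(X_a)`.
-/

set_option autoImplicit false
set_option linter.unusedSectionVars false

namespace Cfsg.Lib.DB

open Subgroup Cfsg.Lib.Chev Cfsg.Lib.BG Cfsg.Lib.GW Cfsg.Lib.EG
open ES (QA rho eps)
open scoped Cfsg.Lib.Transfer commutatorElement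

variable {ι Φ : Type} [Fintype ι] [DecidableEq ι]

/-- Simply laced, connected, rank at least three (`A₃ = D₃` is allowed). -/
structure RS (R : RootSys ι Φ) : Prop where
  ln : ∀ r, R.ln r = 1
  conn : R.Conn
  ex1 : ∀ a, ∃ b, R.pair b a = 1
  plane : ∀ a b, R.pair a b = 1 → ∃ m, R.pair m a = 1 ∧ R.pair m b = 1

variable {R : RootSys ι Φ} {F G : Type*} [Field F] [Group G]

/-- `K = C(t) ⊓ C(L)`. -/
def K0 (L : Subgroup G) (t g : G) : Prop := g * t = t * g ∧ ∀ l ∈ L, g * l = l * g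

/-- `C₀(a) = C_L(X_a)`. -/
def C0 (L : Subgroup G) (C : ChevSys R F G) (a : Φ) : Subgroup G where
  carrier := {l | l ∈ L ∧ ∀ c, l * C.x a c = C.x a c * l}
  mul_mem' p q := ⟨mul_mem p.1 q.1, fun c => Commute.mul_left (p.2 c) (q.2 c)⟩
  one_mem' := ⟨one_mem _, by simp⟩
  inv_mem' p := ⟨inv_mem p.1, fun c => Commute.inv_left (p.2 c)⟩

theorem mem_C0 {L : Subgroup G} {C : ChevSys R F G} {a : Φ} {l : G} : l ∈ C0 L C a ↔ l ∈ L ∧ ∀ c, l * C.x a c = C.x a c * l := Iff.rfl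

/-- `L` is normal in `C(t)`, `t` is the only involution of `K`; `mon`: `N_L(C)` is transitive on pairs of roots at `60°`;
`cen`: the centralizer in `C(t)` of the involutions of `C_L(X_a, X_b)` for one (then every: `mon`) pair at `120°`. -/
structure St (L : Subgroup G) (C : ChevSys R F G) (t : G) : Prop where
  lac : ∀ r s k, R.α k = R.α r + R.α s → ∀ a b, ⁅C.x r a, C.x s b⁆ = C.x k (a * b)
  inj : ∀ a c, C.x a c = 1 → c = 0
  sep : ∀ a b c d, C.x a c = C.x b d → c ≠ 0 → a = b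
  xL : ∀ a c, C.x a c ∈ L
  gen : ∀ H : Subgroup G, (∀ l ∈ L, l * l = 1 → l ∈ H) → L ≤ H
  t2 : t * t = 1
  t1 : t ≠ 1
  tL : ∀ l ∈ L, l * t = t * l
  nm : t ∉ L
  cn : ∀ g, g * t = t * g → g ∈ 𝐍(L)
  kinv : ∀ g, K0 L t g → g * g = 1 → g = 1 ∨ g = t
  mon : ∀ a b a' b', R.pair a b = 1 → R.pair a' b' = 1 →
    ∃ n ∈ L, ∃ w, R.IsAut w ∧ w a = a' ∧ w b = b' ∧ ∀ k c, n * C.x k c * n⁻¹ = C.x (w k) c
  cen : ∀ a b k, R.α k = R.α a + R.α b → ∀ g, g * t = t * g →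
    (∀ l ∈ C0 L C a, l ∈ C0 L C b → l * l = 1 → g * l = l * g) → ∃ u v w, K0 L t (C.x a u * C.x b v * C.x k w * g)

/-- `K = O ∪ t O`, `O` of odd order. -/
structure S1 (L : Subgroup G) (C : ChevSys R F G) (t : G) (O : Subgroup G) : Prop extends St L C t where
  odd : Odd (Nat.card O)
  Ok : ∀ o ∈ O, K0 L t o
  K0 : ∀ g, K0 L t g → g ∈ O ∨ t * g ∈ O

/-- `p` centralizes `C₀(r)` and moves `t` to `t x_r(d)`. -/
structure E (L : Subgroup G) (C : ChevSys R F G) (t : G) (r : Φ) (p : G) (d : F) : Prop where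
  cx : ∀ l ∈ C0 L C r, p * l = l * p
  ct : p * t * p⁻¹ = t * C.x r d

/-- `p` centralizes `C₀(a) ⊓ C₀(b)` and moves `t` to `t x_a(d) x_b(e)`. -/
structure EV (L : Subgroup G) (C : ChevSys R F G) (t : G) (a b : Φ) (p : G) (d e : F) : Prop where
  cx : ∀ l ∈ C0 L C a, l ∈ C0 L C b → p * l = l * p
  ct : p * t * p⁻¹ = t * (C.x a d * C.x b e)

/-- The output of `DB/Z1`. -/
structure ZP (L : Subgroup G) (C : ChevSys R F G) (t : G) (Y : Φ → Subgroup G) : Prop extends S1 L C t ⊥ where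
  par : ∀ a, ∀ p ∈ Y a, ∃ d, E L C t a p d
  onto : ∀ a d, ∃ p ∈ Y a, E L C t a p d
  ker : ∀ a, ∀ p ∈ Y a, p * t = t * p → ∃ c, p = C.x a c
  x_mem : ∀ a c, C.x a c ∈ Y a
  ymon : ∀ (g : G) (w : Equiv.Perm Φ) (c : Φ → Fˣ) (σ : F ≃+* F), g * t = t * g → R.IsAut w →
    (∀ k e, g * C.x k e * g⁻¹ = C.x (w k) (c k * σ e)) → ∀ a, ∀ p ∈ Y a, g * p * g⁻¹ ∈ Y (w a)
  cm : ∀ a b, R.pair a b = 1 → ∀ p ∈ Y a, ∀ p' ∈ Y b, ⁅p, p'⁆ ∈ C.XS {a, b}
  cx : ∀ a b s, R.α a = R.α b + R.α s → ∀ p ∈ Y b, ∀ e, ∃ p₁ ∈ Y a, ∃ c, C.x s e * p * (C.x s e)⁻¹ = p * p₁ * C.x b c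
  tr : ∀ a b s, R.α a = R.α b + R.α s → ∀ p ∈ Y a, ∀ c, eps (rho C s c) p ∈ C.XS {a, b}

/-- The output of `DB/Z2`. -/
structure ZR (L : Subgroup G) (C : ChevSys R F G) (t : G) (Y : Φ → Subgroup G) : Prop extends ZP L C t Y where
  com : ∀ a b, 0 ≤ R.pair a b → ∀ p ∈ Y a, ∀ p' ∈ Y b, p * p' = p' * p
  sq : ∀ a, ∀ p ∈ Y a, p * p = 1
  xn : ∀ a s k, R.α k = R.α a + R.α s → ∀ p ∈ Y a, ∀ c : Fˣ, ⁅C.x s c, p⁆ = C.n s c * p * (C.n s c)⁻¹
  cm3 : ∀ a b k, R.α k = R.α a + R.α b → ∀ p ∈ Y a, ∀ p' ∈ Y b, ⁅p, p'⁆ ∈ Y k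

/-- The doubled long root groups. -/
structure ZD (L : Subgroup G) (C : ChevSys R F G) (t : G) (O : Subgroup G) (ν : F) (y : Φ → QA ν → G) : Prop extends S1 L C t O where
  add : ∀ r a b, y r (a + b) = y r a * y r b
  com : ∀ r s, 0 ≤ R.pair r s → ∀ a b, y r a * y s b = y s b * y r a
  ylac : ∀ r s k, R.α k = R.α r + R.α s → ∀ a b, ⁅y r a, y s b⁆ = y k (a * b)
  ext : ∀ r c, y r ⟨c, 0⟩ = C.x r c
  ct : ∀ r a, t * y r a * t = y r (star a)
  cO : ∀ o ∈ O, ∀ r a, o * y r a = y r a * o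
  yc : ∀ r a, ∀ l ∈ C0 L C r, y r a * l = l * y r a
  eqv : ∀ l ∈ L, ∀ r s, (∀ c, l * C.x r c * l⁻¹ = C.x s c) → ∀ a, l * y r a * l⁻¹ = y s a

namespace K0
variable {L : Subgroup G} {t g h : G}
theorem one : K0 L t 1 := ⟨by simp, by simp⟩
theorem mul (a : K0 L t g) (b : K0 L t h) : K0 L t (g * h) :=
  ⟨Commute.mul_left a.1 b.1, fun l m => Commute.mul_left (a.2 l m) (b.2 l m)⟩
theorem inv (a : K0 L t g) : K0 L t g⁻¹ := ⟨Commute.inv_left a.1, fun l m => Commute.inv_left (a.2 l m)⟩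
theorem pow (a : K0 L t g) (n : ℕ) : K0 L t (g ^ n) := ⟨Commute.pow_left a.1 n, fun l m => Commute.pow_left (a.2 l m) n⟩
end K0

namespace St
variable {L : Subgroup G} {C : ChevSys R F G} {t : G} (s : St L C t)
include s
theorem it : t⁻¹ = t := inv_eq_of_mul_eq_one_left s.t2
theorem tt (g : G) : t * (t * g) = g := by rw [← mul_assoc, s.t2, one_mul]
theorem tx (r : Φ) (a : F) : t * C.x r a = C.x r a * t := (s.tL _ (s.xL r a)).symm
theorem le : C.grp ≤ L := PreSys.XS_le.2 fun r _ a => s.xL r a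
theorem k0_t : K0 L t t := ⟨rfl, fun l m => (s.tL l m).symm⟩
theorem x_inj {a : Φ} {c d : F} (h : C.x a c = C.x a d) : c = d :=
  sub_eq_zero.1 (s.inj a _ (by rw [C.x_sub, h, inv_mul_cancel]))
end St

namespace RS
variable [Fintype Φ] (r : RS R) {a b k : Φ}
include r

theorem sym (a b : Φ) : R.pair a b = R.pair b a := RootSys.pair_comm_of_ln (by rw [r.ln, r.ln])
theorem cases (a b : Φ) : b = a ∨ b = R.neg a ∨ R.pair a b = 1 ∨ R.pair a b = 0 ∨ R.pair a b = -1 := by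
  by_cases h1 : b = a
  · exact .inl h1
  by_cases h2 : b = R.neg a
  · exact .inr (.inl h2)
  have := RootSys.pair_mul_le h1 h2
  rw [r.sym b a] at this
  have : R.pair a b ≤ 1 := by nlinarith
  have : -1 ≤ R.pair a b := by nlinarith
  omega
theorem noG2 : R.NoG2 := by
  intro a b
  rcases r.cases a b with rfl | rfl | h | h | h
  · simp
  · simp
  all_goals simp [h]
omit r in
theorem add (h : R.pair a b = -1) : R.α (R.refl a b) = R.α a + R.α b := by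
  rw [RootSys.α_refl, h]; (module)
theorem pair_of_add (h : R.α k = R.α a + R.α b) : R.pair a b = -1 := by
  have := RootSys.ln_of_comb (R := R) (k := k) (r := a) (s := b) (i := 1) (j := 1) (by simpa using h)
  rw [r.ln, r.ln, r.ln] at this
  omega
theorem btw (h : R.Between a b k) (h' : b ≠ R.neg a) : R.α k = R.α a + R.α b := by
  rcases r.cases a b with rfl | e | e | e | e
  · exact (r.noG2.not_between (by simp) k h).elim
  · exact (h' e).elim
  · exact (r.noG2.not_between (by omega) k h).elim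
  · exact (h.of_orth e).1
  · exact h.of_A2 r.noG2 e (by rwa [r.sym])
theorem commute {C : ChevSys R F G} (h : 0 ≤ R.pair a b) (c d : F) : Commute (C.x a c) (C.x b d) := by
  have h1 : b ≠ R.neg a := RootSys.ne_neg_of_pair (by omega)
  refine C.commute_of_not_between h1 (fun k hk => ?_) c d
  have := r.pair_of_add (r.btw hk h1)
  omega
theorem exd (h : R.pair a b = 1) : ∃ s, R.α a = R.α b + R.α s :=
  ⟨R.refl a (R.neg b), by rw [add (by simp [h]), R.α_neg]; abel⟩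
theorem exs (a : Φ) : ∃ b s, R.α a = R.α b + R.α s := let ⟨b, h⟩ := r.ex1 a; ⟨b, r.exd (r.sym a b ▸ h)⟩
theorem pair_ab {s : Φ} (h0 : R.α a = R.α b + R.α s) : R.pair a b = 1 ∧ R.pair a s = 1 ∧ R.pair b s = -1 := by
  have h := r.pair_of_add h0
  refine ⟨?_, ?_, h⟩
  · rw [r.sym, ES.padd h0, h]; simp
  · rw [r.sym, ES.padd h0, r.sym s b, h]; simp
theorem x_C0 {L : Subgroup G} {C : ChevSys R F G} {t : G} (s : St L C t) (h : 0 ≤ R.pair a k) (c : F) : C.x k c ∈ C0 L C a :=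
  ⟨s.xL k c, fun d => (r.commute h d c).symm⟩
omit r in
theorem of_rt {θ : Φ} {i₀ : ι} (r : Rt R θ i₀ 1) : RS R := ⟨r.ln, r.conn, ES.ex1 r, fun _ _ h => ES.plane r h⟩
end RS

end Cfsg.Lib.DB
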