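import Cfsg.Agent.Lib.DB.Def

/-!
# DB, I: port of `ES/Z1` (and `cent1`, `cent2`, `s1` of `ES/AB`).
`r : RS R` replaces `Rt`/`R2`; `h.cx k c m` becomes `h.cx _ (r.x_C0 s m c)`; `W_top`, `W_pair`, `exists_nW`, `cent_x` are replaced by `St.mon`
(an `n` with `n x_a(c) n⁻¹ = x_a(c)` for all `c` lies in `C0 a` by definition); `faith.x_inj`, `eq_of_x_eq` by `St.x_inj`, `St.sep`; `not_mem` by `St.nm`.
Add any helper lemmas (`vmul`, `memV`, `sqX`, `vcj`, `E.mul`, `EV.*`, `zero`, `zeroV`, ...) with the names of `ES/Z1`: `DB/Z2` uses them.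
-/

set_option autoImplicit false
set_option linter.unusedSectionVars false

namespace Cfsg.Lib.DB

open Subgroup Cfsg.Lib.Chev Cfsg.Lib.BG Cfsg.Lib.GW Cfsg.Lib.EG
open ES (QA rho eps xi xx padd aneg cXS eps_conj eps_mul eps_inv rho_neg rho_mem)
open scoped Cfsg.Lib.Transfer commutatorElement

variable {ι Φ : Type} [Fintype ι] [DecidableEq ι] [Fintype Φ] {R : RootSys ι Φ}
  {F G : Type*} [Field F] [Finite F] [CharP F 2] [Group G] [Finite G] {L : Subgroup G} {C : ChevSys R F G} {t g l p p' y : G}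
  {θ a b k s : Φ} {d d' e e' : F} {Y : Φ → Subgroup G} {O : Subgroup G}

theorem RS.vmul (r : RS R) (h : 0 ≤ R.pair a b) : C.x a d * C.x b e * (C.x a d' * C.x b e') = C.x a (d + d') * C.x b (e + e') := by
  rw [C.x_add, C.x_add, mul_assoc, ← mul_assoc (C.x b e), ← (r.commute h d' e).eq]; simp only [mul_assoc]
theorem RS.memV (r : RS R) (h : 0 ≤ R.pair a b) : l ∈ C.XS {a, b} ↔ ∃ d e, l = C.x a d * C.x b e := by
  refine ⟨fun m => PreSys.XS_induction (p := fun l => ∃ d e, l = C.x a d * C.x b e) m ⟨0, 0, by simp⟩ ?_, fun ⟨d, e, m⟩ =>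
    m ▸ mul_mem (C.x_mem (by simp) _) (C.x_mem (by simp) _)⟩
  rintro _ - k (rfl | rfl) c ⟨d, e, rfl⟩
  exacts [⟨d + c, e + 0, by rw [← r.vmul h]; simp⟩, ⟨d + 0, e + c, by rw [← r.vmul h]; simp⟩]
theorem RS.sqX (r : RS R) (h : 0 ≤ R.pair a b) (hl : l ∈ C.XS {a, b}) : l * l = 1 := by
  obtain ⟨d, e, rfl⟩ := (r.memV h).1 hl
  simp [r.vmul h, CharTwo.add_self_eq_zero]
theorem St.xcj (z : St L C t) (h : R.α k = R.α a + R.α b) (c e : F) : C.x a c * C.x b e * (C.x a c)⁻¹ = C.x k (c * e) * C.x b e := by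
  rw [← z.lac a b k h, commutatorElement_def, inv_mul_cancel_right]
theorem St.nL (z : St L C t) (hg : g * t = t * g) (hl : l ∈ L) : g⁻¹ * l * g ∈ L := (mem_normalizer_iff''.1 (z.cn g hg) l).1 hl
theorem St.cjC0 (z : St L C t) (hg : g * t = t * g) (hl : l ∈ L) (h : ∀ c, Commute l (g * C.x a c * g⁻¹)) : g⁻¹ * l * g ∈ C0 L C a :=
  ⟨z.nL hg hl, fun c => by simpa [mul_assoc] using ((Commute.conj_iff g⁻¹).2 (h c)).eq⟩
theorem cjcm (h : p * (g⁻¹ * l * g) = g⁻¹ * l * g * p) : g * p * g⁻¹ * l = l * (g * p * g⁻¹) := by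
  simpa [mul_assoc] using ((Commute.conj_iff g).2 h).eq
theorem St.eq_zero (z : St L C t) (h : R.α k = R.α a + R.α b) (c : Commute (C.x a d) (C.x b e)) : d * e = 0 :=
  z.inj k _ ((z.lac a b k h d e).symm.trans (commutatorElement_eq_one_iff_commute.2 c))

namespace E
theorem cr (r : RS R) (z : St L C t) (h : E L C t a p d) (c : F) : p * C.x a c = C.x a c * p := h.cx _ (r.x_C0 z (by simp) c)
theorem mul (r : RS R) (z : St L C t) (h : E L C t a p d) (h' : E L C t a p' d') : E L C t a (p * p') (d + d') :=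
  ⟨fun l m => Commute.mul_left (h.cx l m) (h'.cx l m), by
    rw [mul_inv_rev, show p * p' * t * (p'⁻¹ * p⁻¹) = p * (p' * t * p'⁻¹) * p⁻¹ by simp only [mul_assoc], h'.ct, ← mul_assoc,
      mul_assoc _ _ p⁻¹, (Commute.inv_left (h.cr r z d')).symm.eq, ← mul_assoc, h.ct, C.x_add, mul_assoc]⟩
theorem inv (r : RS R) (z : St L C t) (h : E L C t a p d) : E L C t a p⁻¹ d :=
  ⟨fun l m => Commute.inv_left (h.cx l m), by
    rw [inv_inv, mul_assoc, inv_mul_eq_iff_eq_mul, ← mul_assoc, eq_mul_of_mul_inv_eq h.ct, mul_assoc, mul_assoc, h.cr r z, ← mul_assoc (C.x a d), xx,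
      one_mul]⟩
theorem uniq (z : St L C t) (h : E L C t a p d) (h' : E L C t a p d') : d = d' := z.x_inj (mul_left_cancel (h.ct.symm.trans h'.ct))
theorem tt (r : RS R) (z : St L C t) (h : E L C t a p d) : t * p * t = p * C.x a d := by
  rw [mul_assoc, eq_mul_of_mul_inv_eq h.ct, mul_assoc, z.tt, h.cr r z]
/-- `g` normalizes `L` (`cn`); for `l ∈ C0 b`, `g⁻¹ l g ∈ C0 a` (`φ` is injective by `x_inj`; only `x_a(c) = g⁻¹ x_b(φ c) g` is used). -/
theorem conj (z : St L C t) {φ : F → F} (h : E L C t a p d) (hg : g * t = t * g) (e : ∀ c, g * C.x a c * g⁻¹ = C.x b (φ c)) :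
    E L C t b (g * p * g⁻¹) (φ d) := by
  refine ⟨fun l m => cjcm (h.cx _ (z.cjC0 hg m.1 fun c => e c ▸ m.2 _)), ?_⟩
  rw [← e, show g * p * g⁻¹ * t * (g * p * g⁻¹)⁻¹ = g * (p * (g⁻¹ * t * g) * p⁻¹) * g⁻¹ by simp only [mul_inv_rev, inv_inv, mul_assoc],
    mul_assoc g⁻¹, ← hg, inv_mul_cancel_left, h.ct, ← mul_assoc, hg]
  simp only [mul_assoc]
theorem evl (h : E L C t a p d) (b : Φ) : EV L C t a b p d 0 := ⟨fun l m _ => h.cx l m, by simp [h.ct]⟩
theorem evr (h : E L C t b p d) (a : Φ) : EV L C t a b p 0 d := ⟨fun l _ m => h.cx l m, by simp [h.ct]⟩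
end E

namespace St
variable (r : RS R) (z : St L C t)
include r z

theorem e_x (a : Φ) (c : F) : E L C t a (C.x a c) 0 := ⟨fun _ m => (m.2 c).symm, by simp [← z.tx]⟩
omit r in
theorem e_t (a : Φ) : E L C t a t 0 := ⟨fun l m => (z.tL l m.1).symm, by simp⟩
/-- `a = k + b'`-type decomposition: write `b = a + s` (`exd`); `C0 a ⊓ C0 s ≤ C0 b` (`lac`), so `cen a s b` gives `x_a(u) x_s(v) x_b(w) g ∈ K`.
`g`, `K`, `x_a`, `x_b` commute with `x_a(1) ∈ C0 a ⊓ C0 b`, so `x_s(v)` does: `x_b(v) = 1`, `v = 0`. -/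
theorem cent2 (hab : R.pair a b = 1) (hg : g * t = t * g) (h : ∀ l ∈ C0 L C a, l ∈ C0 L C b → l * l = 1 → g * l = l * g) :
    ∃ c e, K0 L t (C.x a c * C.x b e * g) := by
  obtain ⟨s, h0⟩ := r.exd (r.sym a b ▸ hab)
  obtain ⟨u, v, w, k⟩ := z.cen a s b h0 g hg fun l m n => h l m ⟨m.1, fun c => by
    rw [← mul_one c, ← z.lac a s b h0]
    exact ((Commute.mul_right (m.2 c) (n.2 1)).mul_right (Commute.inv_right (m.2 c))).mul_right (Commute.inv_right (n.2 1))⟩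
  have c1 : Commute (C.x a 1) g := (h _ (r.x_C0 z (by simp) 1) (r.x_C0 z (by simp [r.sym b, hab]) 1) (xx ..)).symm
  have c2 := (((r.commute (C := C) (a := a) (b := a) (by simp) 1 u).inv_right.mul_right (k.2 _ (z.xL a 1)).symm).mul_right c1.inv_right).mul_right
    (r.commute (b := b) (by simp [hab]) 1 w).inv_right
  have := z.eq_zero (e := v) h0 (by simpa [mul_assoc] using c2)
  rw [one_mul] at this
  exact ⟨u, w, by simpa [this] using k⟩
/-- `b` with `(a, b) = 1`, `a = b + s`, `x_s(1) ∈ C0 a` commutes with `g`, `K`, `x_a`: `e = 0` in `cent2`. -/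
theorem cent1 (hg : g * t = t * g) (h : ∀ l ∈ C0 L C a, l * l = 1 → g * l = l * g) : ∃ c, K0 L t (C.x a c * g) := by
  obtain ⟨b, s, h0⟩ := r.exs a
  obtain ⟨p1, p2, -⟩ := r.pair_ab h0
  obtain ⟨c, e, k⟩ := z.cent2 r p1 hg fun l m _ => h l m
  have c1 : Commute (C.x s 1) g := (h _ (r.x_C0 z (by simp [p2]) 1) (xx ..)).symm
  have c2 := ((r.commute (C := C) (a := a) (b := s) (by simp [p2]) c 1).symm.inv_right.mul_right (k.2 _ (z.xL s 1)).symm).mul_right c1.inv_right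
  have := z.eq_zero (d := e) h0 (Commute.symm (by simpa [mul_assoc] using c2))
  rw [mul_one] at this
  exact ⟨c, by simpa [this] using k⟩
/-- As `ES.St.onto`; `mon` moves `θ` to `a` (`ex1` for both). -/
theorem onto (hy : E L C t θ y 1) (a : Φ) (d : F) : ∃ p, E L C t a p d := by
  obtain rfl | hd := eq_or_ne d 0
  · exact ⟨t, z.e_t a⟩
  obtain ⟨b, hb⟩ := r.ex1 a
  obtain ⟨b', hb'⟩ := r.ex1 θ
  obtain ⟨n, hn, w, -, -, w1, e⟩ := z.mon b' θ b a hb' hb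
  have h1 := hy.conj z (φ := id) (z.tL n hn) fun c => w1 ▸ e θ c
  have h2 := h1.conj z (z.tL _ (z.le (C.H_le_grp (C.h_mem_H b (Units.mk0 d hd))))) fun e => C.h_conj b a _ e
  exact ⟨_, by simpa [hb] using h2⟩
/-- As `ES.St.s1`; `x_θ(1) ∉ K` since it does not commute with `x_s(1)`, `(θ, s) = -1` (`lac`, `inj`). -/
theorem s1 (hy : E L C t θ y 1) : ∃ O, S1 L C t O ∧ y ∈ 𝐍(O) := by
  let O : Subgroup G := ⟨⟨⟨{k | K0 L t k ∧ K0 L t (y * k * y⁻¹)}, fun a b => ⟨a.1.mul b.1, by rw [← conj_mul]; exact a.2.mul b.2⟩⟩,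
    ⟨K0.one, by simpa using K0.one⟩⟩, fun a => ⟨a.1.inv, by rw [← conj_inv]; exact a.2.inv⟩⟩
  have sq : ∀ k, K0 L t k → k * k ∈ O := fun k p => by
    have h1 : ∀ l ∈ C0 L C θ, y * k * y⁻¹ * l = l * (y * k * y⁻¹) := fun l m =>
      Commute.mul_left (Commute.mul_left (hy.cx l m) (p.2 l m.1)) (Commute.inv_left (hy.cx l m))
    have h2 : Commute (y * k * y⁻¹) (t * C.x θ 1) := by
      rw [← hy.ct]; exact Commute.conj p.1 y
    have h3 : y * k * y⁻¹ * t = t * (y * k * y⁻¹) := by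
      simpa using h2.mul_right (show Commute _ _ from h1 _ (r.x_C0 z (k := θ) (by simp) 1)).inv_right |>.eq
    obtain ⟨c, q⟩ := z.cent1 r h3 fun l m _ => h1 l m
    refine ⟨p.mul p, ?_⟩
    have h4 := q.mul q
    rwa [(show Commute _ _ from h1 _ (r.x_C0 z (k := θ) (by simp) c)).mul_mul_mul_comm, xx, one_mul, conj_mul] at h4
  have o : Odd (Nat.card O) := Nat.not_even_iff_odd.1 fun e => by
    obtain ⟨k, p⟩ := exists_prime_orderOf_dvd_card' 2 e.two_dvd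
    have k2 : k.1 * k = 1 := by rw [← _root_.sq, ← coe_pow, ← p, pow_orderOf_eq_one, coe_one]
    have k1 : k.1 ≠ 1 := fun z => by simp [show k = 1 from Subtype.ext z] at p
    have h1 := k.2.2
    rw [(z.kinv _ k.2.1 k2).resolve_left k1, hy.ct] at h1
    have h2 := z.k0_t.mul h1
    rw [z.tt] at h2
    obtain ⟨b, s, h0⟩ := r.exs θ
    simpa using z.eq_zero (aneg h0) (h2.2 _ (z.xL _ 1))
  obtain ⟨n, hn'⟩ := o
  have hn : ∀ o ∈ O, o ^ (2 * n + 1) = 1 := fun o p => hn' ▸ congrArg Subtype.val (pow_card_eq_one' (x := (⟨o, p⟩ : O)))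
  have pw : ∀ k : G, k ^ (2 * n + 1) * k = (k * k) ^ (n + 1) := fun k => by rw [← pow_succ, ← pow_two, ← pow_mul]; rfl
  refine ⟨O, ⟨z, ⟨n, hn'⟩, fun o p => p.1, fun k p => ?_⟩, mem_normalizer_fintype fun k p => ?_⟩
  · have := pow_mem (sq k p) (n + 1)
    rcases z.kinv (k ^ (2 * n + 1)) (p.pow _) (by rw [← (Commute.refl k).mul_pow, hn _ (sq k p)]) with z | z <;>
      rw [← pw, z] at this
    exacts [.inl (one_mul k ▸ this), .inr this]
  · have := pow_mem (sq _ p.2) (n + 1)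
    rwa [← pw, conj_pow, hn k p, mul_one, mul_inv_cancel, one_mul] at this
end St

namespace EV
variable (r : RS R) (z : St L C t) (hab : R.pair a b = 1)
include r z hab
theorem cV (h : EV L C t a b p d e) (hl : l ∈ C.XS {a, b}) : p * l = l * p :=
  cXS (by
    rintro k (rfl | rfl) c
    exacts [h.cx _ (r.x_C0 z (by simp) c) (r.x_C0 z (by simp [r.sym b, hab]) c), h.cx _ (r.x_C0 z (by simp [hab]) c) (r.x_C0 z (by simp) c)]) hl
theorem cj (h : EV L C t a b p d e) (hl : l ∈ C.XS {a, b}) : p * l * p⁻¹ ∈ C.XS {a, b} := by rwa [h.cV r z hab hl, mul_inv_cancel_right]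
omit z in
theorem symm (h : EV L C t a b p d e) : EV L C t b a p e d := ⟨fun l m n => h.cx l n m, by rw [h.ct, (r.commute (by simp [hab]) d e).eq]⟩
theorem mul (h : EV L C t a b p d e) (h' : EV L C t a b p' d' e') : EV L C t a b (p * p') (d + d') (e + e') :=
  ⟨fun l m n => Commute.mul_left (h.cx l m n) (h'.cx l m n), by
    rw [mul_inv_rev, show p * p' * t * (p'⁻¹ * p⁻¹) = p * (p' * t * p'⁻¹) * p⁻¹ by simp only [mul_assoc], h'.ct, ← mul_assoc,
      mul_assoc _ _ p⁻¹, (Commute.inv_left (h.cV r z hab ((r.memV (by simp [hab])).2 ⟨d', e', rfl⟩))).symm.eq, ← mul_assoc, h.ct,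
      mul_assoc, r.vmul (by simp [hab])]⟩
theorem inv (h : EV L C t a b p d e) : EV L C t a b p⁻¹ d e :=
  ⟨fun l m n => Commute.inv_left (h.cx l m n), by
    have m := (r.memV (C := C) (a := a) (b := b) (by simp [hab])).2 ⟨d, e, rfl⟩
    rw [inv_inv, mul_assoc, inv_mul_eq_iff_eq_mul, ← mul_assoc, eq_mul_of_mul_inv_eq h.ct, mul_assoc, mul_assoc, h.cV r z hab m,
      ← mul_assoc (C.x a d * _), r.sqX (by simp [hab]) m, one_mul]⟩
omit r hab in
theorem ofV (hl : l ∈ C.XS {a, b}) : EV L C t a b l 0 0 :=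
  ⟨fun _ m n => (cXS (by rintro _ (rfl | rfl) e; exacts [m.2 e, n.2 e]) hl).symm, by simp [z.tL _ (z.le (C.XS_le_grp _ hl))]⟩
end EV

section
variable (r : RS R) (h0 : R.α a = R.α b + R.α s) (z : St L C t)
include r h0 z

theorem vcj (c d e : F) : C.x s c * (C.x a d * C.x b e) * (C.x s c)⁻¹ = C.x a (d + c * e) * C.x b e := by
  rw [← mul_assoc, (r.commute (by simp [r.sym s, (r.pair_ab h0).2.1]) c d).eq, mul_assoc, mul_assoc, ← mul_assoc (C.x s c),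
    z.xcj (h0.trans (add_comm _ _)), C.x_add, mul_assoc]
theorem vcj' (c d e : F) :
    C.x (R.neg s) c * (C.x a d * C.x b e) * (C.x (R.neg s) c)⁻¹ = C.x a d * C.x b (e + c * d) := by
  have h : 0 ≤ R.pair a b := by simp [(r.pair_ab h0).1]
  rw [(r.commute h d e).eq, vcj r (aneg h0) z, (r.commute h _ _).eq]

theorem EV.conj_x (h : EV L C t a b p d e) (c : F) : EV L C t a b (C.x s c * p * (C.x s c)⁻¹) (d + c * e) e := by
  refine ⟨fun l m n => cjcm ?_, ?_⟩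
  · have k (d e : F) : Commute l (C.x s c * (C.x a d * C.x b e) * (C.x s c)⁻¹) := vcj r h0 z c d e ▸ Commute.mul_right (m.2 _) (n.2 _)
    exact h.cx _ (z.cjC0 (z.tx s c).symm m.1 fun u => by simpa using k u 0) (z.cjC0 (z.tx s c).symm m.1 fun u => by simpa using k 0 u)
  · rw [← vcj r h0 z, show C.x s c * p * (C.x s c)⁻¹ * t * (C.x s c * p * (C.x s c)⁻¹)⁻¹ =
      C.x s c * (p * ((C.x s c)⁻¹ * t * C.x s c) * p⁻¹) * (C.x s c)⁻¹ by simp only [mul_inv_rev, inv_inv, mul_assoc],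
      mul_assoc _ t, z.tx, inv_mul_cancel_left, h.ct, ← mul_assoc, ← z.tx]
    simp only [mul_assoc]
theorem EV.conj_x' (h : EV L C t a b p d e) (c : F) :
    EV L C t a b (C.x (R.neg s) c * p * (C.x (R.neg s) c)⁻¹) d (e + c * d) :=
  ((h.symm r (r.pair_ab h0).1).conj_x r (aneg h0) z c).symm r (r.pair_ab (aneg h0)).1

theorem EV.rho (h : EV L C t a b p d e) (c : Fˣ) :
    EV L C t a b (rho C s c * p * (rho C s c)⁻¹) (c * e) (e + (c⁻¹ : Fˣ) * d) := by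
  have := (h.conj_x' r h0 z (c⁻¹ : Fˣ)).conj_x r h0 z c
  rw [mul_add, Units.mul_inv_cancel_left, add_comm (_ * e), ← add_assoc, CharTwo.add_self_eq_zero, zero_add] at this
  simpa only [ES.rho, mul_inv_rev, mul_assoc] using this
theorem EV.rho' (h : EV L C t a b p d e) (c : Fˣ) :
    EV L C t a b ((ES.rho C s c)⁻¹ * p * ES.rho C s c) (d + c * e) ((c⁻¹ : Fˣ) * d) := by
  have := (h.conj_x r h0 z c).conj_x' r h0 z (c⁻¹ : Fˣ)
  rw [mul_add, Units.inv_mul_cancel_left, add_comm _ e, ← add_assoc, CharTwo.add_self_eq_zero, zero_add] at this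
  simpa only [ES.rho, mul_inv_rev, mul_assoc, xi] using this

/-- `1 + ρ + ρ² = 0` on `V = X_a X_b`. -/
theorem eps_V (hl : l ∈ C.XS {a, b}) (c : Fˣ) : eps (rho C s c) l = 1 := by
  have h : 0 ≤ R.pair a b := by simp [(r.pair_ab h0).1]
  obtain ⟨d, e, rfl⟩ := (r.memV h).1 hl
  have k (x y v : G) : x * y * v * (x * y)⁻¹ = x * (y * v * y⁻¹) * x⁻¹ := by simp only [mul_inv_rev, mul_assoc]
  have k' (x y v : G) (p : x⁻¹ = x) (q : y⁻¹ = y) : (x * y)⁻¹ * v * (x * y) = y * (x * v * x⁻¹) * y⁻¹ := by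
    simp only [mul_inv_rev, p, q, mul_assoc]
  rw [eps, rho, k, k' _ _ _ (xi ..) (xi ..), vcj' r h0 z, vcj r h0 z, vcj r h0 z, vcj' r h0 z, r.vmul h, r.vmul h]
  convert (by simp : C.x a 0 * C.x b 0 = 1) <;> simp only [mul_add, Units.mul_inv_cancel_left, Units.inv_mul_cancel_left] <;>
    ring_nf <;> simp [CharTwo.two_eq_zero, show (4 : F) = 0 from by rw [show (4 : F) = 2 * 2 by norm_num, CharTwo.two_eq_zero, zero_mul]]
theorem fix_V (hl : l ∈ C.XS {a, b}) (c : Fˣ) (h : rho C s c * l = l * rho C s c) : l = 1 := by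
  have := eps_V r h0 z hl c
  rwa [eps, h, mul_inv_cancel_right, mul_assoc (rho C s c)⁻¹, ← h, inv_mul_cancel_left, r.sqX (by simp [(r.pair_ab h0).1]) hl, one_mul] at this
theorem EV.eps (h : EV L C t a b p d e) (c : Fˣ) : EV L C t a b (eps (ES.rho C s c) p) 0 0 := by
  have := (h.mul r z (r.pair_ab h0).1 (h.rho r h0 z c)).mul r z (r.pair_ab h0).1 (h.rho' r h0 z c)
  rwa [CharTwo.add_self_eq_zero, ← add_assoc, CharTwo.add_self_eq_zero, zero_add, CharTwo.add_self_eq_zero] at this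
end

namespace S1
variable (r : RS R) (z : S1 L C t ⊥)
include r z

theorem zero (h : E L C t a p 0) : ∃ c, p = C.x a c ∨ p = C.x a c * t := by
  obtain ⟨c, k⟩ := z.cent1 r (by simpa [mul_inv_eq_iff_eq_mul] using h.ct) fun l m _ => h.cx l m
  refine ⟨c, (z.K0 _ k).imp (fun m => ?_) fun m => ?_⟩
  · rw [← xi, eq_inv_of_mul_eq_one_right (mem_bot.1 m)]
  · rw [← xi, eq_inv_mul_iff_mul_eq, eq_inv_of_mul_eq_one_right (mem_bot.1 m), z.it]
theorem zeroV (hab : R.pair a b = 1) (h : EV L C t a b p 0 0) : p ∈ C.XS {a, b} ∨ p * t ∈ C.XS {a, b} := by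
  obtain ⟨c, e, k⟩ := z.cent2 r hab (by simpa [mul_inv_eq_iff_eq_mul] using h.ct) fun l m n _ => h.cx l m n
  have m := inv_mem ((r.memV (C := C) (a := a) (b := b) (by simp [hab])).2 ⟨c, e, rfl⟩)
  refine (z.K0 _ k).imp (fun n => ?_) fun n => ?_
  · rwa [eq_inv_of_mul_eq_one_right (mem_bot.1 n)]
  · have := eq_inv_of_mul_eq_one_right (mem_bot.1 n)
    rwa [eq_inv_mul_of_mul_eq this, inv_mul_cancel_right]

/-- If `p² ∈ V t` then `p` centralizes `t`, `p ∈ V ∪ V t`, `p² = 1 ∉ V t`. -/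
theorem sqV (hab : R.pair a b = 1) (h : EV L C t a b p d e) : p * p ∈ C.XS {a, b} := by
  have h2 := h.mul r z.toSt hab h
  rw [CharTwo.add_self_eq_zero, CharTwo.add_self_eq_zero] at h2
  refine (z.zeroV r hab h2).elim id fun m => ?_
  have c : Commute p t := by
    have := (Commute.mul_right (Commute.refl p) (Commute.refl p)).inv_right.mul_right (h.cV r z.toSt hab m)
    rwa [inv_mul_cancel_left] at this
  refine (z.zeroV r hab ⟨h.cx, by simp [c.eq]⟩).elim (fun n => mul_mem n n) fun n => ?_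
  have := mul_mem n n
  rwa [mul_assoc, ← mul_assoc t, ← c.eq, mul_assoc, z.t2, mul_one] at this
theorem cmV (hab : R.pair a b = 1) (h : EV L C t a b p d e) (h' : EV L C t a b p' d' e') : ⁅p, p'⁆ ∈ C.XS {a, b} := by
  have := mul_mem (mul_mem (z.sqV r hab (h.mul r z.toSt hab h')) ((h'.inv r z.toSt hab).cj r z.toSt hab (inv_mem (z.sqV r hab h))))
    (inv_mem (z.sqV r hab h'))
  simpa [commutatorElement_def, mul_assoc] using this

theorem eps_i (h0 : R.α a = R.α b + R.α s) (h : EV L C t a b p d e) (c : Fˣ) :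
    eps (rho C s c)⁻¹ p ∈ C.XS {a, b} ↔ eps (rho C s c) p ∈ C.XS {a, b} := by
  have hab := (r.pair_ab h0).1
  rw [eps_inv, mul_mem_cancel_left (h.cj r z.toSt hab (z.cmV r hab (h.rho' r h0 z.toSt c) (h.rho r h0 z.toSt c)))]

/-- `P_V / V` is elementary abelian, so `eps ρ` induces a homomorphism `P_V → ⟨t⟩ V / V`, onto (`eps ρ t = t`), invariant under `x_s(c)` (it inverts `ρ`).
`W` is its kernel. -/
theorem exists_W (h0 : R.α a = R.α b + R.α s) (c : Fˣ) : ∃ W : Subgroup G,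
    (∀ p, p ∈ W ↔ (∃ d e, EV L C t a b p d e) ∧ eps (rho C s c) p ∈ C.XS {a, b}) ∧ t ∉ W ∧ C.XS {a, b} ≤ W ∧
    (∀ p d e, EV L C t a b p d e → p ∈ W ∨ p * t ∈ W) ∧ (∀ p ∈ W, C.x s c * p * (C.x s c)⁻¹ ∈ W) ∧
    ∀ p ∈ W, t * p * t ∈ W := by
  have hab := (r.pair_ab h0).1
  have key {p p' : G} {d e d' e' : F} (h : EV L C t a b p d e) (h' : EV L C t a b p' d' e') :
      ∃ v ∈ C.XS {a, b}, eps (rho C s c) (p * p') = v * eps (rho C s c) p * eps (rho C s c) p' :=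
    ⟨_, mul_mem (h.cj r z.toSt hab (z.cmV r hab h' (h.rho r h0 z.toSt c))) ((h.mul r z.toSt hab (h.rho r h0 z.toSt c)).cj r z.toSt hab
      (z.cmV r hab (h'.mul r z.toSt hab (h'.rho r h0 z.toSt c)) (h.rho' r h0 z.toSt c))), eps_mul _ _ _⟩
  have e1 : eps (rho C s c) 1 = 1 := by simp [eps]
  have et : eps (rho C s c) t = t := by
    rw [eps, z.tL _ (z.le (rho_mem s c)), mul_inv_cancel_right, z.tL _ (z.le (inv_mem (rho_mem s c))), inv_mul_cancel_right, z.t2, one_mul]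
  let W : Subgroup G :=
    { carrier := {p | (∃ d e, EV L C t a b p d e) ∧ eps (rho C s c) p ∈ C.XS {a, b}}
      one_mem' := ⟨⟨_, _, EV.ofV z.toSt (one_mem _)⟩, by rw [e1]; exact one_mem _⟩
      mul_mem' := fun ⟨⟨_, _, h⟩, m⟩ ⟨⟨_, _, h'⟩, m'⟩ => let ⟨_, n, k⟩ := key h h'
        ⟨⟨_, _, h.mul r z.toSt hab h'⟩, k ▸ mul_mem (mul_mem n m) m'⟩
      inv_mem' := fun ⟨⟨_, _, h⟩, m⟩ => let ⟨_, n, k⟩ := key h (h.inv r z.toSt hab)
        ⟨⟨_, _, h.inv r z.toSt hab⟩, (mul_mem_cancel_left (mul_mem n m)).1 (by rw [← k, mul_inv_cancel, e1]; exact one_mem _)⟩ }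
  have V : C.XS {a, b} ≤ W := fun l m => ⟨⟨_, _, EV.ofV z.toSt m⟩, eps_V r h0 z.toSt m c ▸ one_mem _⟩
  refine ⟨W, fun _ => Iff.rfl, fun m => z.nm (z.le (C.XS_le_grp _ (et ▸ m.2))), V, fun p d e h => ?_,
    fun p ⟨⟨_, _, h⟩, m⟩ => ⟨⟨_, _, h.conj_x r h0 z.toSt c⟩, ?_⟩, fun p m => ?_⟩
  · refine (z.zeroV r hab (h.eps r h0 z.toSt c)).imp (fun m => ⟨⟨_, _, h⟩, m⟩) fun m => ?_
    obtain ⟨v, n, k⟩ := key h ((z.e_t a).evl b)
    exact ⟨⟨_, _, h.mul r z.toSt hab ((z.e_t a).evl b)⟩, by rw [k, et, mul_assoc]; exact mul_mem n m⟩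
  · have : rho C s c = C.x s c * (rho C s c)⁻¹ * (C.x s c)⁻¹ := by simp only [rho, mul_inv_rev, mul_assoc, xi, xx, mul_one]
    rw [this, ← eps_conj]
    obtain ⟨d, e, k⟩ := (r.memV (by simp [hab])).1 ((z.eps_i r h0 h c).2 m)
    rw [k, vcj r h0 z.toSt]
    exact (r.memV (by simp [hab])).2 ⟨_, _, rfl⟩
  · obtain ⟨d, e, h⟩ := m.1
    rw [mul_assoc, eq_mul_of_mul_inv_eq h.ct, mul_assoc, z.tt]
    exact mul_mem (V ((r.memV (by simp [hab])).2 ⟨_, _, rfl⟩)) m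

omit z in
/-- `m = h_d(λ) n_w ∈ C₀(a)` (`W_pair`, `exists_nW`, `cent_x`; `d = s' - m'`, `m'` from `plane`) centralizes `p` and conjugates `rho s c` to `rho s' c'`,
`X_b` to `X_{b'}`. -/
theorem indep (z : St L C t) {b' s' : Φ} (h0 : R.α a = R.α b + R.α s) (h0' : R.α a = R.α b' + R.α s') {c c' : Fˣ} (h : E L C t a p d)
    (e : eps (rho C s c) p ∈ C.XS {a, b}) : eps (rho C s' c') p ∈ C.XS {a, b'} := by
  have h1 := (r.pair_ab h0').2.1
  obtain ⟨n, hn, w, aw, w1, w2, en⟩ := z.mon a s a s' (r.pair_ab h0).2.1 h1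
  have w3 : w b = b' := R.α_inj (by
    have := aw.comb (k := a) (r := b) (s := s) (i := 1) (j := 1) |>.2 (by simpa using h0)
    rw [w1, w2, h0', one_smul, one_smul] at this
    exact (add_right_cancel this).symm)
  have k1 := h.cx n ⟨hn, fun u => by rw [← mul_inv_eq_iff_eq_mul, en, w1]⟩
  have e1 := PreSys.conj_mem_of_XS (K := C.XS {a, b'}) (g := n) (by
    rintro _ (rfl | rfl) u <;> rw [en] <;> exact C.x_mem (by simp [w1, w3]) _) e
  obtain ⟨m, m1, m2⟩ := r.plane _ _ h1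
  obtain ⟨δ, hδ⟩ := r.exd (r.sym _ _ ▸ m2 : R.pair s' m = 1)
  have d1 : R.pair a δ = 0 := by have := padd hδ a; rw [r.sym a m] at this; omega
  have d2 : R.pair δ s' = 1 := r.sym _ _ ▸ (r.pair_ab hδ).2.1
  have k2 := h.cx _ ⟨z.le (C.H_le_grp (C.h_mem_H δ (c' * c⁻¹))), fun u => by rw [← mul_inv_eq_iff_eq_mul, C.h_conj, r.sym, d1]; simp⟩
  have e2 := (mem_normalizer_iff.1 (C.H_le_normalizer {a, b'} (C.h_mem_H δ (c' * c⁻¹))) _).1 e1
  have k (g x y : G) : g * (x * y) * g⁻¹ = g * x * g⁻¹ * (g * y * g⁻¹) := by simp [mul_assoc]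
  rw [eps_conj, ← k1, mul_inv_cancel_right, eps_conj, ← k2, mul_inv_cancel_right, rho, k n, en, en, k, C.h_conj, C.h_conj, aw.neg, w2] at e2
  simpa [rho, d2, mul_assoc, mul_left_comm (c : F)] using e2

/-- `Y a = {p ∈ P_a | ∀ b s c, a = b + s → eps (rho s c) p ∈ X_a X_b}` `= P_a ⊓ W` for any one `(b, s, c)` (`indep`).  `mon`: `g (rho s c) g⁻¹ = rho (w s) (c_s σ c)`
(the factors at `s` and `-s` are inverse, as in `SL.neg`; or apply `rho_cube`-free argument: `c_{-s} c_s = 1` from `lac`).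
`cx`: `e ≠ 0`, `W` for `(s, e)`; `p ∈ W` (`rho_neg`, `eps ρ⁻¹ p ≡ eps ρ p`), `p₁ ∈ Y a` with `E a p₁ (e d)`; `p₁⁻¹ p⁻¹ (x p x⁻¹) ∈ W` centralizes `t`, so lies in `V`. -/
theorem exists_zp (hy : E L C t θ y 1) : ∃ Y, ZP L C t Y := by
  let Y (a : Φ) : Subgroup G :=
    { carrier := {p | (∃ d, E L C t a p d) ∧ ∀ b s, R.α a = R.α b + R.α s → ∀ c, eps (rho C s c) p ∈ C.XS {a, b}}
      one_mem' := ⟨⟨0, by simpa using z.e_x r a 0⟩, fun _ _ _ _ => by simp [eps]⟩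
      mul_mem' := fun ⟨⟨_, h⟩, m⟩ ⟨⟨_, h'⟩, m'⟩ => ⟨⟨_, h.mul r z.toSt h'⟩, fun b s h0 c => let ⟨W, k, _⟩ := z.exists_W r h0 c
        ((k _).1 (mul_mem ((k _).2 ⟨⟨_, _, h.evl b⟩, m b s h0 c⟩) ((k _).2 ⟨⟨_, _, h'.evl b⟩, m' b s h0 c⟩))).2⟩
      inv_mem' := fun ⟨⟨_, h⟩, m⟩ => ⟨⟨_, h.inv r z.toSt⟩, fun b s h0 c => let ⟨W, k, _⟩ := z.exists_W r h0 c
        ((k _).1 (inv_mem ((k _).2 ⟨⟨_, _, h.evl b⟩, m b s h0 c⟩))).2⟩ }
  have mk {a b s : Φ} {p : G} {d : F} {c : Fˣ} (h0 : R.α a = R.α b + R.α s) (h : E L C t a p d) (e : eps (rho C s c) p ∈ C.XS {a, b}) : p ∈ Y a :=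
    ⟨⟨d, h⟩, fun _ _ h1 _ => indep r z.toSt h0 h1 h e⟩
  have xm (a : Φ) (c : F) : C.x a c ∈ Y a :=
    ⟨⟨_, z.e_x r a c⟩, fun b s h0 c' => by rw [eps_V r h0 z.toSt (C.x_mem (by simp) c) c']; exact one_mem _⟩
  have onto (a : Φ) (d : F) : ∃ p ∈ Y a, E L C t a p d := by
    obtain ⟨p, h⟩ := z.onto r hy a d
    obtain ⟨b, s, h0⟩ := r.exs a
    obtain ⟨W, k, -, -, k', -⟩ := z.exists_W r h0 1
    rcases k' p _ _ (h.evl b) with m | m
    · exact ⟨p, mk h0 h ((k _).1 m).2, h⟩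
    · have h' := h.mul r z.toSt (z.e_t a)
      exact ⟨_, mk h0 h' ((k _).1 m).2, add_zero d ▸ h'⟩
  refine ⟨Y, z, fun _ _ m => m.1, onto, fun a p ⟨⟨d, h⟩, m⟩ e => ?_, xm, fun g w c σ hg hw e a p ⟨⟨d, h⟩, m⟩ => ?_,
    fun a b hab p ⟨⟨d, h⟩, _⟩ p' ⟨⟨d', h'⟩, _⟩ => z.cmV r hab (h.evl b) (h'.evr a), fun a b s h0 p ⟨⟨d, h⟩, m⟩ e => ?_,
    fun a b s h0 p m c => m.2 b s h0 c⟩
  · obtain ⟨c, k | k⟩ := z.zero r (⟨h.cx, by simp [e]⟩ : E L C t a p 0)
    · exact ⟨c, k⟩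
    obtain ⟨b, s, h0⟩ := r.exs a
    obtain ⟨W, k1, k2, k3, -⟩ := z.exists_W r h0 1
    exact absurd ((mul_mem_cancel_left (k3 (C.x_mem (by simp) c))).1 (k ▸ (k1 _).2 ⟨⟨_, _, h.evl b⟩, m b s h0 1⟩)) k2
  · obtain ⟨b, s, h0⟩ := r.exs a
    have ad {k a b : Φ} (h0 : R.α k = R.α a + R.α b) : R.α (w k) = R.α (w a) + R.α (w b) := by
      simpa using hw.comb (k := k) (r := a) (s := b) (i := 1) (j := 1) |>.2 (by simpa using h0)
    have cm {k a b : Φ} (h0 : R.α k = R.α a + R.α b) : c k = c a * c b := by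
      have := e k (1 * 1)
      rw [← z.lac a b k h0, conjugate_commutatorElement, e, e, z.lac _ _ _ (ad h0)] at this
      exact Units.ext (by simpa using (z.x_inj this).symm)
    have cn : c (R.neg s) = (c s)⁻¹ := by
      have := cm (aneg h0)
      rw [cm h0, mul_assoc, left_eq_mul] at this
      exact eq_inv_of_mul_eq_one_right this
    have e1 := PreSys.conj_mem_of_XS (K := C.XS {w a, w b}) (g := g) (by
      rintro _ (rfl | rfl) u <;> rw [e] <;> exact C.x_mem (by simp) _) (m b s h0 1)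
    have k (g x y : G) : g * (x * y) * g⁻¹ = g * x * g⁻¹ * (g * y * g⁻¹) := by simp [mul_assoc]
    rw [eps_conj, rho, k, e, e, hw.neg, cn] at e1
    exact mk (c := c s) (ad h0) (h.conj z.toSt hg (e a)) (by simpa [rho] using e1)
  · obtain rfl | he := eq_or_ne e 0
    · exact ⟨1, one_mem _, 0, by simp⟩
    have hab := (r.pair_ab h0).1
    obtain ⟨W, k1, k2, k3, -, k4, -⟩ := z.exists_W r h0 (Units.mk0 e he)
    have pW : p ∈ W := (k1 _).2 ⟨⟨_, _, h.evr a⟩, (z.eps_i r h0 (h.evr a) _).1 (by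
      rw [← rho_neg, Set.pair_comm]; exact m a _ (aneg h0) _)⟩
    obtain ⟨p₁, m₁, h₁⟩ := onto a (e * d)
    have qW := mul_mem (mul_mem (inv_mem ((k1 _).2 ⟨⟨_, _, h₁.evl b⟩, m₁.2 b s h0 _⟩)) (inv_mem pW)) (k4 p pW)
    have q := (((h₁.inv r z.toSt).evl b).mul r z.toSt hab ((h.inv r z.toSt).evr a)).mul r z.toSt hab ((h.evr a).conj_x r h0 z.toSt e)
    simp only [add_zero, zero_add, CharTwo.add_self_eq_zero] at q
    obtain ⟨u, v, k⟩ := (r.memV (by simp [hab])).1 ((z.zeroV r hab q).resolve_right fun n =>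
      k2 ((mul_mem_cancel_left qW).1 (k3 n)))
    exact ⟨_, mul_mem m₁ (xm a u), v, by rw [mul_assoc p, mul_assoc p₁, ← k]; simp only [mul_assoc, mul_inv_cancel_left]⟩
end S1

end Cfsg.Lib.DB
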