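import Cfsg.Agent.Lib.DB.Z1

/-!
# DB, II: port of `ES/Z2`.  `same`, `dec`, `com1'`, `com1`, `com2`, `n_mem`, `cn0`, `sq`, `iv`, `xn`, `cm_x` as there; `cm3` and `com0` are new (in this order);
`cm0`, `cm_a`, `cm_b`, `cm_c` are dropped.
-/

set_option autoImplicit false
set_option linter.unusedSectionVars false

namespace Cfsg.Lib.DB

open Subgroup Cfsg.Lib.Chev Cfsg.Lib.BG Cfsg.Lib.GW Cfsg.Lib.EG
open ES (QA rho eps xi xx padd aneg cXS rho_cube)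
open scoped Cfsg.Lib.Transfer commutatorElement

variable {ι Φ : Type} [Fintype ι] [DecidableEq ι] [Fintype Φ] {R : RootSys ι Φ}
  {F G : Type*} [Field F] [Finite F] [CharP F 2] [Group G] [Finite G] {L : Subgroup G} {C : ChevSys R F G} {t g l p p' y : G}
  {θ a b k s : Φ} {d d' e e' : F} {Y : Φ → Subgroup G} {O : Subgroup G}

theorem RS.refl_eq (r : RS R) (h0 : R.α k = R.α a + R.α s) : R.refl s a = k :=
  R.α_inj (by rw [RS.add (r.sym _ _ ▸ r.pair_of_add h0), h0, add_comm])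
theorem ne_of (h : R.pair a b ≤ 1) : a ≠ b := by rintro rfl; simp at h
theorem St.x_ne (z : St L C t) (h : a ≠ b) (e : C.x a d = C.x b d') : d = 0 := by_contra fun n => h (z.sep _ _ _ _ e n)
theorem braid (s : Φ) (c : Fˣ) : C.n s c = C.x (R.neg s) (c⁻¹ : Fˣ) * C.x s c * C.x (R.neg s) (c⁻¹ : Fˣ) := by
  have := C.n_neg_root s c⁻¹
  rw [inv_inv, show -c = c from Units.ext (CharTwo.neg_eq _)] at this
  rw [← this, PreSys.n, R.neg_neg, inv_inv, CharTwo.neg_eq]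

namespace ZP
variable (r : RS R) (z : ZP L C t Y)
include r z

theorem cx' (hp : p ∈ Y a) (h : 0 ≤ R.pair a k) (c : F) : p * C.x k c = C.x k c * p := (z.par a p hp).choose_spec.cx _ (r.x_C0 z.toSt h c)

/-- `ker` for `p⁻¹ p'`. -/
theorem same (hp : p ∈ Y a) (h : E L C t a p d) (hp' : p' ∈ Y a) (h' : E L C t a p' d) : ∃ c, p' = p * C.x a c := by
  have := ((h.inv r z.toSt).mul r z.toSt h').ct
  rw [CharTwo.add_self_eq_zero, C.x_zero, mul_one, mul_inv_eq_iff_eq_mul] at this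
  obtain ⟨c, e⟩ := z.ker a _ (mul_mem (inv_mem hp) hp') this
  exact ⟨c, eq_mul_of_inv_mul_eq e⟩

theorem cV {S : Set Φ} (hp : p ∈ Y a) (h : ∀ k ∈ S, 0 ≤ R.pair a k) (hl : l ∈ C.XS S) : p * l = l * p := cXS (fun k m => z.cx' r hp (h k m)) hl

/-- In `cx` with `e = 1`, `E a p₁ d` if `E b p d` (`EV.conj_x`); so every `p' ∈ Y a` is `p⁻¹ (x p x⁻¹) v`, `p ∈ Y b`, `v ∈ X_a X_b`. -/
theorem dec (h0 : R.α a = R.α b + R.α s) (hp' : p' ∈ Y a) :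
    ∃ p ∈ Y b, ∃ v ∈ C.XS {a, b}, p' = p⁻¹ * (C.x s 1 * p * (C.x s 1)⁻¹) * v := by
  have hab := (r.pair_ab h0).1
  obtain ⟨d, h'⟩ := z.par a p' hp'
  obtain ⟨p, hp, h⟩ := z.onto b d
  obtain ⟨p₁, m₁, c, e⟩ := z.cx a b s h0 p hp 1
  obtain ⟨d₁, h₁⟩ := z.par a p₁ m₁
  have e1 := ((h.evr a).conj_x r h0 z.toSt 1).ct
  rw [e, (((h.evr a).mul r z.toSt hab (h₁.evl b)).mul r z.toSt hab ((z.e_x r b c).evr a)).ct] at e1
  simp only [add_zero, zero_add, one_mul, mul_right_inj, mul_left_inj] at e1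
  obtain rfl := z.x_inj e1
  obtain ⟨c', rfl⟩ := z.same r m₁ h₁ hp' h'
  exact ⟨p, hp, (C.x b c)⁻¹ * C.x a c', mul_mem (inv_mem (C.x_mem (by simp) _)) (C.x_mem (by simp) _), by rw [e]; group⟩

theorem com1' (h : R.pair a b = 1) (hp : p ∈ Y a) (hp' : p' ∈ Y b) : ∃ w, ⁅p, p'⁆ = C.x b w := by
  obtain ⟨m, m1, m2⟩ := r.plane _ _ h
  rw [r.sym] at m1 m2
  obtain ⟨s, h0⟩ := r.exd m2
  have s0 := padd h0 a
  obtain ⟨q, hq, v, hv, rfl⟩ := z.dec r h0 hp'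
  obtain ⟨u, w, e⟩ := (r.memV (by omega)).1 (z.cm a m m1 p hp q hq)
  have k1 := z.cx' r hp (k := s) (by omega) 1
  have k2 := z.cV r hp (by rintro _ (rfl | rfl) <;> omega) hv
  have k3 : C.x s 1 * ⁅p, q⁆ * (C.x s 1)⁻¹ = ⁅p, q⁆ * C.x b w := by
    rw [e, ← mul_assoc, (r.commute (by rw [r.sym]; omega) 1 u).eq, mul_assoc, mul_assoc, ← mul_assoc (C.x s 1),
      z.xcj (h0.trans (add_comm _ _)), one_mul, (r.commute (by omega) w w).eq, mul_assoc]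
  refine ⟨w, ?_⟩
  calc ⁅p, q⁻¹ * (C.x s 1 * q * (C.x s 1)⁻¹) * v⁆ = q⁻¹ * ⁅p, q⁆⁻¹ * (p * C.x s 1 * p⁻¹) * ⁅p, q⁆ * q * (p * C.x s 1 * p⁻¹)⁻¹ * (p * v * p⁻¹) *
      (q⁻¹ * (C.x s 1 * q * (C.x s 1)⁻¹) * v)⁻¹ := by simp only [commutatorElement_def]; group
    _ = q⁻¹ * ⁅p, q⁆⁻¹ * (C.x s 1 * ⁅p, q⁆ * (C.x s 1)⁻¹) * q := by rw [k1, k2]; group
    _ = C.x b w := by rw [k3, mul_assoc q⁻¹, inv_mul_cancel_left, mul_assoc, ← z.cx' r hq (by rw [r.sym]; omega), inv_mul_cancel_left]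

/-- `m` from `plane`, `s = b - m ⊥ a`; `p' = p₂⁻¹ (x p₂ x⁻¹) v` (`dec`), `x = x_s(1)` and `v` commute with `p`, `[p, p₂] = x_a(·) x_m(·)` is central here:
`[p, p'] = [x, [p, p₂]] ∈ X_b`.  By symmetry it lies in `X_a`. -/
theorem com1 (h : R.pair a b = 1) (hp : p ∈ Y a) (hp' : p' ∈ Y b) : p * p' = p' * p := by
  obtain ⟨w, e⟩ := z.com1' r h hp hp'
  obtain ⟨w', e'⟩ := z.com1' r (r.sym _ _ ▸ h) hp' hp
  rw [← commutatorElement_inv, e, xi] at e'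
  rwa [z.x_ne (ne_of h.le).symm e', C.x_zero, commutatorElement_eq_one_iff_mul_comm] at e

/-- `dec`, `com1`. -/
theorem com2 (hp : p ∈ Y a) (hp' : p' ∈ Y a) : p * p' = p' * p := by
  obtain ⟨b, s, h0⟩ := r.exs a
  obtain ⟨h1, h2, -⟩ := r.pair_ab h0
  obtain ⟨q, hq, v, hv, rfl⟩ := z.dec r h0 hp'
  have k : Commute p q := z.com1 r h1 hp hq
  have k' : Commute p (C.x s 1) := z.cx' r hp (by omega) 1
  exact (k.inv_right.mul_right ((k'.mul_right k).mul_right k'.inv_right)).mul_right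
    (z.cV r hp (by rintro _ (rfl | rfl) <;> simp [h1]) hv)

/-- `n_s(c) p n_s(c)⁻¹ ∈ Y (refl s a)` (`mon`, `acts_n`). -/
theorem n_mem (hp : p ∈ Y a) (s : Φ) (c : Fˣ) : C.n s c * p * (C.n s c)⁻¹ ∈ Y (R.refl s a) :=
  z.ymon _ _ _ (RingEquiv.refl F) (z.tL _ (z.le (C.N_le_grp (C.n_mem_N s c)))) (C.acts_n s c).aut (C.acts_n s c).conj a p hp

theorem n_mem' (h0 : R.α k = R.α a + R.α s) (hp : p ∈ Y a) (c : Fˣ) : C.n s c * p * (C.n s c)⁻¹ ∈ Y k := r.refl_eq h0 ▸ z.n_mem r hp s c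

/-- `k = a + s`, `β = x_s(c)`, `α = x_{-s}(c⁻¹)` centralizes `p`, `n = α β α = β α β`.  `ρ = α β = rho (-s) c⁻¹`: `ρ p ρ⁻¹ = n p n⁻¹`, `ρ⁻¹ p ρ = β p β⁻¹`, all in the
abelian group `Y a · Y k` (`cx`, `com1`, `com2`); `eps ρ p ∈ V` (`tr`) is fixed by `ρ`, so trivial (`fix_V`). -/
theorem cn0 (h0 : R.α k = R.α a + R.α s) (hp : p ∈ Y a) (c : Fˣ) :
    C.x s c * p * (C.x s c)⁻¹ = (p * (C.n s c * p * (C.n s c)⁻¹))⁻¹ := by
  obtain ⟨h1, -, h3⟩ := r.pair_ab h0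
  rw [r.sym] at h1
  have m := z.n_mem' r h0 hp c
  have kc : Commute p (C.x (R.neg s) (c⁻¹ : Fˣ)) := z.cx' r hp (by simp [h3]) _
  have e1 : rho C (R.neg s) c⁻¹ * p * (rho C (R.neg s) c⁻¹)⁻¹ = C.n s c * p * (C.n s c)⁻¹ := by
    rw [braid, mul_assoc _ _ p, ← kc.eq, rho, R.neg_neg, inv_inv]; group
  have e2 : (rho C (R.neg s) c⁻¹)⁻¹ * p * rho C (R.neg s) c⁻¹ = C.x s c * p * (C.x s c)⁻¹ := by
    rw [rho, R.neg_neg, inv_inv, mul_inv_rev, mul_assoc _ _ p, ← kc.inv_right.eq, xi C s]; group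
  obtain ⟨q, hq, d, e⟩ := z.cx k a s h0 p hp c
  have k1 : Commute p (C.n s c * p * (C.n s c)⁻¹) := z.com1 r h1 hp m
  have k2 : Commute p (C.x s c * p * (C.x s c)⁻¹) :=
    e ▸ ((Commute.refl p).mul_right (z.com1 r h1 hp hq)).mul_right (z.cx' r hp (by simp) d)
  have := fix_V r (aneg h0) z.toSt (z.tr a k _ (aneg h0) p hp c⁻¹) c⁻¹ (by
    have c3 := rho_cube (C := C) (R.neg s) c⁻¹
    rw [← e1] at k1
    rw [← e2] at k2
    generalize rho C (R.neg s) c⁻¹ = ρ at c3 k1 k2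
    rw [eps, ← mul_inv_eq_iff_eq_mul]
    calc _ = ρ * p * ρ⁻¹ * (ρ ^ 3 * (ρ⁻¹ * p * ρ) * (ρ ^ 3)⁻¹) * p := by group
      _ = _ := by rw [c3, one_mul, inv_one, mul_one, ← (k1.mul_right k2).eq, mul_assoc p])
  rw [eps, e1, e2] at this
  exact eq_inv_of_mul_eq_one_right this

/-- `a, k₁, k₂` with mutual products `1` (`plane`), `s_i = k_i - a`, `β_i = x_{s_i}(1)` commute, `p_i = n_i p n_i⁻¹ ∈ Y k_i`, `β₁` centralizes `p₂`.
`β₁ β₂ p = p p₁ p₂⁻¹`, `β₂ β₁ p = p p₂ p₁⁻¹`, so `p₁² = p₂² ∈ X_{k₁} ⊓ X_{k₂} = 1` (`ker`). -/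
theorem sq (hp : p ∈ Y a) : p * p = 1 := by
  obtain ⟨k₁, h₁⟩ := r.ex1 a
  obtain ⟨k₂, h, h₂⟩ := r.plane _ _ h₁
  obtain ⟨s₁, e₁⟩ := r.exd h₁
  obtain ⟨s₂, e₂⟩ := r.exd h₂
  have a1 := padd e₁ k₂
  have a2 := padd e₂ k₁
  have a3 := padd e₂ s₁
  rw [r.sym k₁ k₂] at a2
  rw [r.sym s₁ k₂, r.sym s₁ a, (r.pair_ab e₁).2.2] at a3
  have m₁ := z.n_mem' r e₁ hp 1
  have m₂ := z.n_mem' r e₂ hp 1
  have c₁ := z.cn0 r e₁ hp 1
  have c₂ := z.cn0 r e₂ hp 1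
  have s (k : Φ) (q : G) (m : q ∈ Y k) : ∃ c, q * q = C.x k c := by
    obtain ⟨d, h⟩ := z.par k q m
    obtain ⟨c, e⟩ := z.same r (inv_mem m) (h.inv r z.toSt) m h
    exact ⟨c, mul_eq_of_eq_inv_mul e⟩
  obtain ⟨d₁, f₁⟩ := s _ _ m₁
  obtain ⟨d₂, f₂⟩ := s _ _ m₂
  suffices C.n s₂ 1 * p * (C.n s₂ 1)⁻¹ * (C.n s₂ 1 * p * (C.n s₂ 1)⁻¹) = 1 by rwa [conj_mul, conj_eq_one_iff] at this
  generalize C.n s₁ 1 * p * (C.n s₁ 1)⁻¹ = p₁ at *
  generalize C.n s₂ 1 * p * (C.n s₂ 1)⁻¹ = p₂ at *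
  have b := (r.commute (C := C) (a := s₁) (b := s₂) (by omega) (1 : Fˣ) (1 : Fˣ)).eq
  have b₁ := z.cx' r m₂ (k := s₁) (by omega) (1 : Fˣ)
  have b₂ := z.cx' r m₁ (k := s₂) (by omega) (1 : Fˣ)
  have k (x y q q' : G) (cx : x * p * x⁻¹ = (p * q)⁻¹) (cy : y * p * y⁻¹ = (p * q')⁻¹) (b : q' * x = x * q') :
      x * y * p * (x * y)⁻¹ = q'⁻¹ * (p * q) := by
    calc x * y * p * (x * y)⁻¹ = x * (y * p * y⁻¹) * x⁻¹ := by group
      _ = (x * q' * x⁻¹)⁻¹ * (x * p * x⁻¹)⁻¹ := by rw [cy]; group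
      _ = _ := by rw [cx, ← b, mul_inv_cancel_right, inv_inv]
  have := k _ _ _ _ c₁ c₂ b₁
  rw [b, k _ _ _ _ c₂ c₁ b₂, inv_mul_eq_iff_eq_mul, ← mul_assoc p₁, ← (Commute.inv_left (z.com1 r h m₂ m₁)).eq, mul_assoc, eq_inv_mul_iff_mul_eq,
    ← mul_assoc, ← mul_assoc, z.com1 r h₂ m₂ hp, z.com1 r h₁ m₁ hp, mul_assoc, mul_assoc, mul_right_inj, f₁, f₂] at this
  rw [f₂, z.x_ne (ne_of h.le) this, C.x_zero]

theorem iv (hp : p ∈ Y a) : p⁻¹ = p := inv_eq_of_mul_eq_one_left (z.sq r hp)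

theorem xn (h0 : R.α k = R.α a + R.α s) (hp : p ∈ Y a) (c : Fˣ) : ⁅C.x s c, p⁆ = C.n s c * p * (C.n s c)⁻¹ := by
  rw [commutatorElement_def, z.cn0 r h0 hp, mul_inv_rev, z.iv r (z.n_mem' r h0 hp c), z.iv r hp, mul_assoc _ p, z.sq r hp, mul_one]

/-- `xn`, `n_mem`; `c = 0` trivial. -/
theorem cm_x (h0 : R.α k = R.α a + R.α s) (hp : p ∈ Y a) (c : F) : ⁅C.x s c, p⁆ ∈ Y k := by
  obtain rfl | hc := eq_or_ne c 0
  · simp
  exact z.xn r h0 hp (Units.mk0 c hc) ▸ z.n_mem' r h0 hp _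

/-- `c = [p, p']`.  As in `ES.ZP.cm3`: `c t c⁻¹ = t x_k(f)`; `q ∈ Y k` with `E k q f` (`onto`).  `q⁻¹ c` centralizes `t` and `C0 a ⊓ C0 b ≤ C0 k`; `cen`, `K0`:
`c = q' x_a(u) x_b(v) κ`, `q' ∈ Y k`, `κ ∈ {1, t}` (reorder with `lac`, `x_k ∈ Y k`).  `p` inverts `c = (p p')²`, centralizes `q'`, `x_a(u)`, and `p x_b(v) p = y' x_b(v)`,
`y' = [p, x_b(v)] ∈ Y k` (`cm_x`).  `κ = 1`: `y' = x_k(u v)`; if `v ≠ 0` then `n p n⁻¹ ∈ X_k` (`xn`) commutes with `t`, `p ∈ X_a` (`ker`), `cm_x`; so `v = 0`, and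
by symmetry (`p'` inverts `c`) `u = 0`.  `κ = t`: `p t p = t x_a(d)` gives `x_a(d) ∈ Y k`, it commutes with `t`, `ker`, `sep`: `d = 0`, `p ∈ X_a`, `cm_x`. -/
theorem cm3 (h0 : R.α k = R.α a + R.α b) (hp : p ∈ Y a) (hp' : p' ∈ Y b) : ⁅p, p'⁆ ∈ Y k := by
  obtain ⟨h1, h2, -⟩ := r.pair_ab h0
  have h0' := h0.trans (add_comm _ _)
  obtain ⟨d, e⟩ := z.par a p hp
  obtain ⟨d', e'⟩ := z.par b p' hp'
  have cj {y : G} (m : y ∈ Y k) : p * y * p⁻¹ = y ∧ p' * y * p'⁻¹ = y :=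
    ⟨by rw [← z.com1 r h1 m hp, mul_inv_cancel_right], by rw [← z.com1 r h2 m hp', mul_inv_cancel_right]⟩
  have y1 := z.cm_x r h0' hp' d
  have y2 : ⁅C.x a d, C.x b d'⁆ ∈ Y k := z.lac _ _ _ h0 d d' ▸ z.x_mem _ _
  have y3 := inv_mem (z.cm_x r h0 hp d')
  rw [commutatorElement_inv] at y3
  have cc {y : G} (m : y ∈ Y k) : Commute ⁅p, p'⁆ y := by
    have k1 : Commute p y := (z.com1 r h1 m hp).symm
    have k2 : Commute p' y := (z.com1 r h2 m hp').symm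
    exact ((k1.mul_left k2).mul_left k1.inv_left).mul_left k2.inv_left
  obtain ⟨y, hy, ey⟩ : ∃ y ∈ Y k, ⁅p, p'⁆ * t * ⁅p, p'⁆⁻¹ = t * y := by
    refine ⟨_, mul_mem (mul_mem y1 y2) y3, ?_⟩
    have := conjugate_commutatorElement p p' t
    rw [z.it, e.tt r z.toSt, e'.tt r z.toSt, show ⁅p * C.x a d, p' * C.x b d'⁆ = p * (⁅C.x a d, p'⁆ * (p' * ⁅C.x a d, C.x b d'⁆ * p'⁻¹)) * p⁻¹ *
      (⁅p, p'⁆ * (p' * ⁅p, C.x b d'⁆ * p'⁻¹)) by simp only [commutatorElement_def]; group, (cj y2).2, (cj (mul_mem y1 y2)).1, (cj y3).2,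
      (cc y3).eq, ← mul_assoc] at this
    rw [mul_inv_eq_iff_eq_mul, mul_assoc, ← this, mul_assoc, z.tt]
  obtain ⟨f, rfl⟩ := z.ker k y hy (by
    have : t * y * (t * y) = 1 := by rw [← ey, conj_mul, z.t2, mul_one, mul_inv_cancel]
    rw [eq_inv_of_mul_eq_one_left this, mul_inv_rev, z.iv r hy, z.it])
  obtain ⟨q, hq, eq⟩ := z.onto k f
  have e0 : q⁻¹ * ⁅p, p'⁆ * t = t * (q⁻¹ * ⁅p, p'⁆) := by
    rw [mul_assoc, eq_mul_of_mul_inv_eq ey, ← mul_assoc, ← mul_assoc, eq_mul_of_mul_inv_eq (eq.inv r z.toSt).ct, mul_assoc _ q⁻¹,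
      (Commute.inv_left (eq.cr r z.toSt f)).eq, ← mul_assoc, mul_assoc t, xx, mul_one, mul_assoc]
  obtain ⟨u, v, w, kk⟩ := z.cen a b k h0 _ e0 fun l m n _ => by
    have k1 : Commute p l := e.cx l m
    have k2 : Commute p' l := e'.cx l n
    refine (Commute.inv_left (eq.cx l ⟨m.1, fun c => ?_⟩)).mul_left (((k1.mul_left k2).mul_left k1.inv_left).mul_left k2.inv_left)
    rw [← mul_one c, ← z.lac a b k h0]
    exact ((Commute.mul_right (m.2 c) (n.2 1)).mul_right (Commute.inv_right (m.2 c))).mul_right (Commute.inv_right (n.2 1))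
  have m := mul_mem hq (z.x_mem k w)
  have e3 : p * ⁅p, p'⁆ * p⁻¹ = ⁅p, p'⁆⁻¹ := by
    simp only [commutatorElement_def, mul_inv_rev, z.iv r hp, z.iv r hp', ← mul_assoc, z.sq r hp, one_mul]
  have e4 : p' * ⁅p, p'⁆ * p'⁻¹ = ⁅p, p'⁆⁻¹ := by
    simp only [commutatorElement_def, mul_inv_rev, z.iv r hp, z.iv r hp', mul_assoc, z.sq r hp', mul_one]
  have fin (h : p * t = t * p) : ⁅p, p'⁆ ∈ Y k := by
    obtain ⟨c, rfl⟩ := z.ker a p hp h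
    exact z.cm_x r h0' hp' c
  have a1 : ∀ g, p * (q * C.x k w * (C.x b v * C.x a u) * g) * p⁻¹ = q * C.x k w * (⁅p, C.x b v⁆ * (C.x b v * C.x a u) * (p * g * p⁻¹)) := fun g => by
    rw [← (cj m).1, ← mul_inv_eq_iff_eq_mul.2 (e.cr r z.toSt u), commutatorElement_def, (cj m).1]; nth_rw 2 [← (cj m).1]
    rw [mul_inv_eq_iff_eq_mul.2 (e.cr r z.toSt u)]; nth_rw 2 [← mul_inv_eq_iff_eq_mul.2 (e.cr r z.toSt u)]; group
  have a2 : (q * C.x k w * (C.x b v * C.x a u))⁻¹ = q * C.x k w * (C.x k (u * v) * (C.x b v * C.x a u)) := by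
    rw [mul_inv_rev, z.iv r m, ← z.lac a b k h0, ← (Commute.inv_right (Commute.mul_right (z.cx' r m (by omega) v) (z.cx' r m (by omega) u))).eq,
      commutatorElement_def, mul_inv_rev, xi, xi]
    simp only [mul_assoc, xi, ← mul_assoc (C.x b v) (C.x b v), ← mul_assoc (C.x a u) (C.x a u), xx, one_mul, mul_one]
  have y4 := inv_mem (z.cm_x r h0 hp v)
  rw [commutatorElement_inv] at y4
  rcases z.K0 _ kk with n | n <;> replace n := mem_bot.1 n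
  · have e1 : ⁅p, p'⁆ = q * C.x k w * (C.x b v * C.x a u) := by
      rw [← mul_assoc, mul_eq_one_iff_inv_eq] at n
      rw [← n]; simp only [mul_inv_rev, xi, inv_inv, mul_assoc]
    have e5 := a1 1
    rw [mul_one, ← e1, e3, e1, a2, mul_one, mul_inv_cancel, mul_one, mul_right_inj, mul_left_inj] at e5
    by_cases hv : v = 0
    · by_cases hu : u = 0
      · simpa [e1, hv, hu] using m
      rw [hv, C.x_zero, one_mul] at e1 a2
      rw [e1, a2, mul_zero, C.x_zero, one_mul, ← conj_mul, (cj m).2, mul_right_inj, mul_inv_eq_iff_eq_mul] at e4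
      have := z.xn r h0' hp' (Units.mk0 u hu)
      rw [Units.val_mk0, commutatorElement_eq_one_iff_mul_comm.2 e4.symm, eq_comm, conj_eq_one_iff] at this
      simp [this]
    · have := z.xn r h0 hp (Units.mk0 v hv)
      rw [Units.val_mk0, ← commutatorElement_inv, ← e5, xi] at this
      have c := z.tL _ (z.le (C.N_le_grp (C.n_mem_N b (Units.mk0 v hv))))
      refine fin ((Commute.conj_iff (C.n b (Units.mk0 v hv))).1 ?_)
      rw [← this, c, mul_inv_cancel_right]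
      exact (z.tx _ _).symm
  have e1 : ⁅p, p'⁆ = q * C.x k w * (C.x b v * C.x a u) * t := by
    rw [mul_eq_one_iff_inv_eq, z.it, ← mul_assoc, ← inv_mul_eq_iff_eq_mul] at n
    rw [← n]; simp only [mul_inv_rev, xi, inv_inv, mul_assoc]
  have e5 := a1 t
  obtain ⟨f', e2⟩ := z.par k _ m
  rw [← e1, e3, e1, mul_inv_rev, a2, z.it, e.ct, ← mul_assoc t, show t * (q * C.x k w) = q * C.x k w * C.x k f' * t by rw [← e2.tt r z.toSt, mul_assoc _ t t, z.t2, mul_one],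
    mul_assoc (q * C.x k w), mul_assoc (q * C.x k w), mul_right_inj] at e5
  have e6 : C.x a d = (C.x k (v * d))⁻¹ * (⁅p, C.x b v⁆⁻¹ * (C.x k f' * C.x k (u * v))) := by
    have c1 := (r.commute (C := C) (a := a) (b := a) (by simp) u d).eq
    have c2 : Commute t (C.x b v * C.x a u) := Commute.mul_right (z.tx _ _) (z.tx _ _)
    rw [eq_inv_mul_iff_mul_eq, ← z.xcj h0', eq_inv_mul_iff_mul_eq, ← mul_left_inj (C.x b v * C.x a u * t)]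
    calc _ = ⁅p, C.x b v⁆ * (C.x b v * (C.x a d * C.x a u) * t) := by group
      _ = ⁅p, C.x b v⁆ * (C.x b v * C.x a u) * (t * C.x a d) := by rw [← c1, z.tx]; group
      _ = _ := by rw [← e5, ← c2.eq, mul_assoc, ← mul_assoc t, z.tx]; group
  obtain ⟨c, e7⟩ := z.ker k _ (e6 ▸ mul_mem (inv_mem (z.x_mem _ _)) (mul_mem (inv_mem y4) (mul_mem (z.x_mem _ _) (z.x_mem _ _)))) (z.tx a d).symm
  obtain rfl := z.x_ne (ne_of (r.sym _ _ ▸ h1.le)) e7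
  exact fin (by simpa [mul_inv_eq_iff_eq_mul] using e.ct)

/-- `m` with `(a, m) = 1`, `(b, m) = -1` (`conn.exists_near_pos` for `a`, `-b`), `a = m + s`, `(b, s) = 1`, `k = m + b`, `(k, s) = 0`.  `p = [x, p₁]`, `x = x_s(1)`, `p₁ ∈ Y m`
(`xn`, as in `ES.ZP.com0`).  `p'` centralizes `x`; `p' p₁ p'⁻¹ = q p₁`, `q = [p', p₁] ∈ Y k` (`cm3`) commutes with `x` (`cx'`) and `p₁` (`com1`): `[x, q p₁] = [x, p₁]`. -/
theorem com0 (h : R.pair a b = 0) (hp : p ∈ Y a) (hp' : p' ∈ Y b) : p * p' = p' * p := by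
  have h' : R.pair b a = 0 := r.sym _ _ ▸ h
  obtain ⟨m, m1, m2⟩ := r.conn.exists_near_pos (show R.pair a (R.neg b) = 0 by simp [h])
  replace m1 : R.pair a m = 1 := by
    rcases r.cases a m with rfl | rfl | e | e | e
    · simp [h] at m2
    · simp at m1
    all_goals rw [r.sym] at m1; omega
  replace m2 : R.pair b m = -1 := by
    rcases r.cases b m with rfl | rfl | e | e | e
    · omega
    · simp [h] at m1
    all_goals rw [r.sym] at m2; simp [e] at m2 ⊢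
  obtain ⟨s, h0⟩ := r.exd m1
  obtain ⟨-, s1, s2⟩ := r.pair_ab h0
  have s3 := padd h0 b
  have h1 := RS.add m2
  generalize R.refl b m = k at h1
  have s4 := padd h1 s
  rw [r.sym s, r.sym s, r.sym s] at s4
  have q1 := z.n_mem' r (aneg h0) hp 1
  have q2 := z.xn r h0 q1 1
  rw [C.n_neg_root, inv_one, C.n_neg, inv_inv] at q1 q2
  have q3 := z.cm3 r h1 hp' q1
  have c1 : Commute p' _ := z.cx' r hp' (k := s) (by omega) (1 : Fˣ)
  have c2 : Commute _ _ := z.cx' r q3 (k := s) (by omega) (1 : Fˣ)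
  have c3 : Commute _ _ := z.com1 r (r.pair_ab h1).2.1 q3 q1
  generalize C.x s (1 : Fˣ) = x at q2 c1 c2
  replace q2 : ⁅x, (C.n s 1)⁻¹ * p * C.n s 1⁆ = p := by rw [q2]; group
  generalize (C.n s 1)⁻¹ * p * C.n s 1 = p₁ at q2 c2 c3
  have c4 : Commute ⁅p', p₁⁆ p := q2 ▸ ((c2.mul_right c3).mul_right c2.inv_right).mul_right c3.inv_right
  rw [eq_comm, ← mul_inv_eq_iff_eq_mul]
  calc p' * p * p'⁻¹ = ⁅p' * x * p'⁻¹, ⁅p', p₁⁆ * p₁⁆ := by rw [← q2, conjugate_commutatorElement, commutatorElement_def p' p₁, inv_mul_cancel_right]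
    _ = ⁅p', p₁⁆ * p * ⁅p', p₁⁆⁻¹ := by
      rw [c1.eq, mul_inv_cancel_right, commutatorElement_def x, ← mul_assoc x, ← c2.eq]; nth_rw 1 [← q2]; simp only [commutatorElement_def x, mul_inv_rev, mul_assoc]
    _ = p := by rw [c4.eq, mul_inv_cancel_right]

theorem com (h : 0 ≤ R.pair a b) (hp : p ∈ Y a) (hp' : p' ∈ Y b) : p * p' = p' * p := by
  rcases r.cases a b with rfl | rfl | e | e | e
  exacts [z.com2 r hp hp', by simp at h, z.com1 r e hp hp', z.com0 r e hp hp', by omega]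

theorem zr : ZR L C t Y :=
  ⟨z, fun _ _ h _ hp _ hp' => z.com r h hp hp', fun _ _ hp => z.sq r hp, fun _ _ _ h _ hp c => z.xn r h hp c,
    fun _ _ _ h _ hp _ hp' => z.cm3 r h hp hp'⟩
end ZP

end Cfsg.Lib.DB
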