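import Cfsg.Agent.Lib.DB.Z2
import Cfsg.Agent.Lib.GSt.SL

/-!
# DB, III: port of `ES/Z3` and of the `ZD` lemmas of `ES/Md`.
-/

set_option autoImplicit false
set_option linter.unusedSectionVars false

namespace Cfsg.Lib.DB

open Subgroup Cfsg.Lib.Chev Cfsg.Lib.BG Cfsg.Lib.GW Cfsg.Lib.EG
open ES (QA rho eps xi xx padd aneg)
open scoped Cfsg.Lib.Transfer commutatorElement

variable {ι Φ : Type} [Fintype ι] [DecidableEq ι] [Fintype Φ] {R : RootSys ι Φ}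
  {F G : Type*} [Field F] [Finite F] [CharP F 2] [Group G] [Finite G] {L : Subgroup G} {C : ChevSys R F G} {t g l p p' y : G}
  {θ a b k s : Φ} {d d' e e' : F} {Y : Φ → Subgroup G} {O : Subgroup G}

/-- As `ES.ZR.zd`, with `θ` any root (`Φ` is nonempty by `hθ`), `θ = s + u` from `exs`; `m a` and the element `n` in `L` come from `mon`.  The lemma `K` becomes:
`l, l' ∈ L`, `∀ c, l x_θ(c) l⁻¹ = l' x_θ(c) l'⁻¹` ⇒ same action on `Y θ` (`l'⁻¹ l ∈ C0 θ`); it gives `eqv`.  `yc`: `y r a ∈ Y r`, `par`. -/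
theorem ZR.zd (r : RS R) (θ : Φ) (z : ZR L C t Y) : ∃ ν y, ZD L C t ⊥ ν y := by
  obtain ⟨s, u, h0⟩ := r.exs θ
  have h1 := (r.pair_ab h0).1
  choose m hm w hw hθ _ em using fun a => z.mon θ s a _ h1 (r.sym _ _ ▸ (r.ex1 a).choose_spec)
  have K {l l' p : G} (h : l ∈ L) (h' : l' ∈ L) (e : ∀ c, l * C.x θ c * l⁻¹ = l' * C.x θ c * l'⁻¹) (hp : p ∈ Y θ) :
      l * p * l⁻¹ = l' * p * l'⁻¹ := by
    have := (z.par θ p hp).choose_spec.cx _ ⟨mul_mem (inv_mem h') h, fun c => by rw [mul_assoc, eq_mul_of_mul_inv_eq (e c)]; group⟩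
    calc l * p * l⁻¹ = l' * (l'⁻¹ * l * p) * l⁻¹ := by group
      _ = _ := by rw [← this]; group
  have mY (a : Φ) {p : G} (hp : p ∈ Y θ) : m a * p * (m a)⁻¹ ∈ Y a := by
    have := z.ymon _ (w a) 1 (RingEquiv.refl F) (z.tL _ (hm a)) (hw a) (by simpa using em a) θ p hp
    rwa [hθ] at this
  have mx (a : Φ) (c : F) : m a * C.x θ c * (m a)⁻¹ = C.x a c := by rw [em, hθ]
  have K' {n p : G} {a b : Φ} (h : n ∈ L) (e : ∀ c, n * C.x a c * n⁻¹ = C.x b c) (hp : p ∈ Y θ) :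
      n * (m a * p * (m a)⁻¹) * n⁻¹ = m b * p * (m b)⁻¹ := by
    rw [← K (mul_mem h (hm a)) (hm b) (fun c => by rw [mx, ← e, ← mx a]; group) hp]; group
  have m1 {p : G} (hp : p ∈ Y θ) : m θ * p * (m θ)⁻¹ = p := by simpa using K (hm θ) (one_mem _) (by simp [mx]) hp
  obtain ⟨M, hM⟩ : ∃ M : G → G → G, ∀ p q, M p q = ⁅m s * p * (m s)⁻¹, m u * q * (m u)⁻¹⁆ := ⟨_, fun _ _ => rfl⟩
  have MY {p q : G} (hp : p ∈ Y θ) (hq : q ∈ Y θ) : M p q ∈ Y θ := hM p q ▸ z.cm3 _ _ _ h0 _ (mY s hp) _ (mY u hq)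
  have LL {a b k : Φ} (h : R.α k = R.α a + R.α b) {p q : G} (hp : p ∈ Y θ) (hq : q ∈ Y θ) :
      ⁅m a * p * (m a)⁻¹, m b * q * (m b)⁻¹⁆ = m k * M p q * (m k)⁻¹ := by
    obtain ⟨n, hn, v, hv, v1, v2, en⟩ := z.mon θ s k a h1 (r.pair_ab h).1
    have v3 : v u = b := R.α_inj (by
      have := hv.comb (k := θ) (r := s) (s := u) (i := 1) (j := 1) |>.2 (by simpa using h0)
      rw [v1, v2, h, one_smul, one_smul] at this
      exact (add_left_cancel this).symm)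
    rw [← K' hn (v1 ▸ en θ) (MY hp hq), m1 (MY hp hq), hM, conjugate_commutatorElement, K' hn (v2 ▸ en s) hp, K' hn (v3 ▸ en u) hq]
  have cm {p q : G} (hp : p ∈ Y θ) (hq : q ∈ Y θ) : p * q = q * p := z.com θ θ (by simp) p hp q hq
  have sy {p q : G} (hp : p ∈ Y θ) (hq : q ∈ Y θ) : M p q = M q p := by
    rw [← m1 (MY hp hq), ← LL (h0.trans (add_comm _ _)) hp hq, ← commutatorElement_inv, ← hM, z.toZP.iv r (MY hq hp)]
  have d1 {p p' q : G} (hp : p ∈ Y θ) (hp' : p' ∈ Y θ) (hq : q ∈ Y θ) : M (p * p') q = M p q * M p' q := by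
    rw [cm (MY hp hq) (MY hp' hq), ← mul_inv_cancel_right (M p' q) (m s * p * (m s)⁻¹), z.com _ _ (by simp [h1]) _ (MY hp' hq) _ (mY s hp)]
    simp only [hM, commutatorElement_def]; group
  have d2 {p q q' : G} (hp : p ∈ Y θ) (hq : q ∈ Y θ) (hq' : q' ∈ Y θ) : M p (q * q') = M p q * M p q' := by
    rw [sy hp (mul_mem hq hq'), d1 hq hq' hp, sy hp hq, sy hp hq']
  have xY := z.x_mem θ
  have Mx (c e : F) : M (C.x θ c) (C.x θ e) = C.x θ (c * e) := by rw [hM, mx, mx, z.lac _ _ _ h0]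
  have M1 {p : G} (hp : p ∈ Y θ) : M (C.x θ 1) p = p := by
    have := z.xn u s θ (h0.trans (add_comm _ _)) _ (mY u hp) 1
    rw [hM, mx, ← Units.val_one, this, K' (z.le (C.N_le_grp (C.n_mem_N s 1))) (r.refl_eq (h0.trans (add_comm _ _)) ▸ n_conj C s u) hp, m1 hp]
  have sc (c : F) : (∀ p ∈ Y θ, ∀ q ∈ Y θ, M (M (C.x θ c) p) q = M (C.x θ c) (M p q)) ∧
      ∀ p ∈ Y θ, ∀ d, E L C t θ p d → E L C t θ (M (C.x θ c) p) (c * d) := by
    obtain rfl | hc := eq_or_ne c 0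
    · exact ⟨fun _ _ _ _ => by simp [hM], fun _ _ _ _ => by simpa [hM] using z.e_x r θ 0⟩
    obtain ⟨δ, δ1, δ2⟩ := r.plane _ _ h1
    have δ3 := padd h0 δ
    rw [r.sym δ u] at δ3
    have hh := z.le (C.H_le_grp (C.h_mem_H δ (Units.mk0 c hc)))
    have hc' := C.h_conj δ
    have h4 : C.h δ (Units.mk0 c hc) ∈ C0 L C u := ⟨hh, fun e => by rw [← mul_inv_eq_iff_eq_mul, hc', r.sym, show R.pair u δ = 0 by omega]; simp⟩
    have h5 (e : F) : C.h δ (Units.mk0 c hc) * C.x θ e * (C.h δ (Units.mk0 c hc))⁻¹ = C.x θ (c * e) := by simp [hc', δ1]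
    have h6 (e : F) : C.h δ (Units.mk0 c hc) * C.x s e * (C.h δ (Units.mk0 c hc))⁻¹ = C.x s (c * e) := by simp [hc', δ2]
    generalize C.h δ (Units.mk0 c hc) = h at hh h4 h5 h6
    have k {p q : G} (hp : p ∈ Y θ) (hq : q ∈ Y θ) : h * M p q * h⁻¹ = M (h * p * h⁻¹) q := by
      have := K (mul_mem hh (hm s)) (mul_mem (hm s) hh) (fun _ => by
        rw [mul_inv_rev, mul_inv_rev, show ∀ a b x : G, a * b * x * (b⁻¹ * a⁻¹) = a * (b * x * b⁻¹) * a⁻¹ by intros; group, mx, h6,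
          show ∀ a b x : G, a * b * x * (b⁻¹ * a⁻¹) = a * (b * x * b⁻¹) * a⁻¹ by intros; group, h5, mx]) hp
      rw [hM, hM, conjugate_commutatorElement, ← (z.par u _ (mY u hq)).choose_spec.cx _ h4, mul_inv_cancel_right]
      congr 1
      simpa only [mul_inv_rev, mul_assoc] using this
    have k' {p : G} (hp : p ∈ Y θ) : M (C.x θ c) p = h * p * h⁻¹ := by rw [← mul_one c, ← h5, ← k (xY 1) hp, M1 hp]
    refine ⟨fun p hp q hq => by rw [k' hp, ← k hp hq, k' (MY hp hq)], fun p hp d e => ?_⟩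
    exact k' hp ▸ e.conj z.toSt (z.tL _ hh) h5
  obtain ⟨ω, hω, eω⟩ := z.onto θ 1
  have uY (b : F) := MY (xY b) hω
  have uE (b : F) : E L C t θ (M (C.x θ b) ω) b := by simpa using (sc b).2 ω hω 1 eω
  obtain ⟨ν, hν⟩ : ∃ ν, M ω ω = ω * C.x θ ν := by
    obtain ⟨β, e⟩ := z.par θ _ (MY hω hω)
    have tm (a : Φ) (p : G) : t * (m a * p * (m a)⁻¹) * t⁻¹ = m a * (t * p * t) * (m a)⁻¹ := by
      rw [show t * (m a * p * (m a)⁻¹) * t⁻¹ = t * m a * t⁻¹ * (t * p * t⁻¹) * (t * m a * t⁻¹)⁻¹ by group, ← z.tL _ (hm a), mul_inv_cancel_right, z.it]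
    have : t * M ω ω * t⁻¹ = M ω ω * C.x θ 1 := by
      nth_rw 1 [hM]
      rw [conjugate_commutatorElement, tm, tm, ← hM, eω.tt r z.toSt, d1 hω (xY 1) (mul_mem hω (xY 1)), d2 hω hω (xY 1), d2 (xY 1) hω (xY 1),
        sy hω (xY 1), M1 hω, Mx, mul_one, mul_assoc, ← mul_assoc ω, z.sq θ ω hω, one_mul]
    rw [z.it, e.tt r z.toSt, mul_right_inj] at this
    exact z.toZP.same r hω eω (MY hω hω) (z.x_inj this ▸ e)
  have xu (a b : F) : M (C.x θ a) (M (C.x θ b) ω) = M (C.x θ (a * b)) ω := by rw [← (sc a).1 _ (xY b) _ hω, Mx]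
  have uu (a b : F) : M (M (C.x θ a) ω) (M (C.x θ b) ω) = M (C.x θ (a * b)) ω * C.x θ (a * b * ν) := by
    rw [(sc a).1 _ hω _ (uY b), sy hω (uY b), (sc b).1 _ hω _ hω, hν, d2 (xY b) hω (xY ν), d2 (xY a) (uY b) (MY (xY b) (xY ν)), xu, Mx, Mx, mul_assoc]
  have ua (a b : F) : M (C.x θ (a + b)) ω = M (C.x θ a) ω * M (C.x θ b) ω := by rw [C.x_add, d1 (xY a) (xY b) hω]
  have yY (a : QA ν) : C.x θ a.re * M (C.x θ a.im) ω ∈ Y θ := mul_mem (xY _) (uY _)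
  refine ⟨ν, fun k a => m k * (C.x θ a.re * M (C.x θ a.im) ω) * (m k)⁻¹, z.toS1, fun k a b => ?_,
    fun k l h a b => z.com k l h _ (mY k (yY a)) _ (mY l (yY b)), fun a b k h c e => ?_, fun k c => by simp [hM, mx], fun k a => ?_, by simp,
    fun k a => (z.par k _ (mY k (yY a))).choose_spec.cx, fun l hl a b e c => K' hl e (yY c)⟩
  · rw [conj_mul, QuadraticAlgebra.re_add, QuadraticAlgebra.im_add, ua, C.x_add, mul_assoc (C.x θ a.re), mul_assoc (C.x θ a.re),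
      ← mul_assoc (C.x θ b.re), cm (xY b.re) (uY _), mul_assoc (M _ ω)]
  · rw [LL h (yY c) (yY e), d1 (xY _) (uY _) (yY e), d2 (xY _) (xY _) (uY _), d2 (uY _) (xY _) (uY _), Mx, xu, sy (uY _) (xY _), xu, uu,
      QuadraticAlgebra.re_mul, QuadraticAlgebra.im_mul, ua, ua, C.x_add, one_mul, mul_comm e.re, mul_assoc ν, mul_comm ν,
      mul_assoc (C.x θ _) (C.x θ _), cm (xY (_ * ν)) (mul_mem (mul_mem (uY _) (uY _)) (uY _))]
    simp only [mul_assoc]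
  · rw [QuadraticAlgebra.re_star, QuadraticAlgebra.im_star, CharTwo.neg_eq, one_mul, C.x_add, mul_assoc (C.x θ a.re), cm (xY a.im) (uY _),
      ← (uE _).tt r z.toSt, ← mul_assoc (C.x θ a.re), ← mul_assoc (C.x θ a.re), ← z.tx, mul_assoc t, mul_assoc _ _ t, z.tL _ (inv_mem (hm k)),
      ← mul_assoc t, ← mul_assoc t, ← z.tL _ (hm k)]
    simp only [mul_assoc]

/-- As `ES.S1.zd` with `L' = (L.subgroupOf 𝐍(O)).map π`.  `inj`, `sep`: `un`.  `nm`: `l = t o` gives `t = l ^ |O|`.  `K`: `n` centralizes the involutions of `L` (`uc`), `gen`.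
`gen` in the quotient: pull `H` back.  `l̄ ∈ C0 a` in the quotient iff `l ∈ C0 a` (`uc`).  `yc`, `eqv`: `un`. -/
theorem S1.zd (r : RS R) (z : S1 L C t O) (hy : E L C t θ y 1) (hO : y ∈ 𝐍(O)) : ∃ ν y, ZD L C t O ν y := by
  obtain ⟨n, hn⟩ := z.odd
  have hr : ∀ o ∈ O, o ^ (2 * n + 1) = 1 := fun o p => hn ▸ congrArg Subtype.val (pow_card_eq_one' (x := (⟨o, p⟩ : O)))
  have po {X : Type _} [Group X] {a : X} (h : a * a = 1) : a ^ (2 * n + 1) = a := by rw [pow_succ, pow_mul, sq, h, one_pow, one_mul]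
  have o1 : ∀ o ∈ O, o * o = 1 → o = 1 := fun o p e => (po e).symm.trans (hr o p)
  have cD : ∀ {x : G}, (∀ o ∈ O, o * x = x * o) → x ∈ 𝐍(O) := fun p => centralizer_le_normalizer _ p
  have hN : L ≤ 𝐍(O) := fun l m => cD fun o p => (z.Ok o p).2 l m
  have hL : C.grp ≤ 𝐍(O) := z.le.trans hN
  let t₁ : 𝐍(O) := ⟨t, cD fun o p => (z.Ok o p).1⟩
  let π := QuotientGroup.mk' (O.subgroupOf 𝐍(O))
  let x := (C.resTo _ hL).x
  have π1 : ∀ {a b}, π a = π b ↔ (a⁻¹ * b).1 ∈ O := QuotientGroup.eq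
  have su := QuotientGroup.mk'_surjective (O.subgroupOf 𝐍(O))
  have cj2 {a : 𝐍(O)} (h : a * a = 1) (g : 𝐍(O)) : g * a * g⁻¹ * (g * a * g⁻¹) = 1 := by rw [conj_mul, h, mul_one, mul_inv_cancel]
  have un : ∀ {a b : 𝐍(O)}, (∀ o ∈ O, o * a = a * o) → a * a = 1 → b * b = 1 → π a = π b → a = b := fun {a b} p e f q => by
    have := π1.1 q
    refine inv_mul_eq_one.1 (Subtype.ext (o1 _ this ?_))
    rw [← one_mul (_ * _), ← coe_one 𝐍(O), ← e, coe_mul _ a a, ← Commute.mul_mul_mul_comm (p _ this), ← coe_mul, mul_inv_cancel_left, ← coe_mul,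
      ← coe_mul, f, e]
  have uc : ∀ {a : 𝐍(O)} (n : 𝐍(O)), (∀ o ∈ O, o * a = a * o) → a * a = 1 → π n * π a = π a * π n → n * a = a * n := fun n p e f =>
    mul_inv_eq_iff_eq_mul.1 (un p e (cj2 e n) (by rw [map_mul, map_mul, f, map_inv, mul_inv_cancel_right])).symm
  have ct : ∀ n, π n * π t₁ = π t₁ * π n → n.1 * t = t * n := fun n e =>
    congrArg Subtype.val (uc (a := t₁) n (fun o p => (z.Ok o p).1) (Subtype.ext z.t2) e)
  have xD (k : Φ) (c : F) : ∀ o ∈ O, o * (x k c).1 = (x k c).1 * o := fun o p => (z.Ok o p).2 _ (z.xL k c)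
  let L' := (L.subgroupOf 𝐍(O)).map π
  have mL {l : G} (m : l ∈ L) : π ⟨l, hN m⟩ ∈ L' := mem_map_of_mem π m
  have m0 {l : G} {a : Φ} (m : l ∈ C0 L C a) : π ⟨l, hN m.1⟩ ∈ C0 L' ((C.resTo _ hL).map π) a :=
    ⟨mL m.1, fun c => congrArg π (a₁ := ⟨l, hN m.1⟩ * x a c) (a₂ := x a c * (⟨l, hN m.1⟩ : 𝐍(O))) (Subtype.ext (m.2 c))⟩
  have uL {l : G} (n : 𝐍(O)) (m : l ∈ L) (e : l * l = 1) (f : π n * π ⟨l, hN m⟩ = π ⟨l, hN m⟩ * π n) : n * l = l * n :=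
    congrArg Subtype.val (uc (a := ⟨l, hN m⟩) n (fun o p => (z.Ok o p).2 l m) (Subtype.ext e) f)
  have K : ∀ g, DB.K0 L' (π t₁) g → g = 1 ∨ π t₁ * g = 1 := fun g e => by
    obtain ⟨n, rfl⟩ := su g
    exact (z.K0 _ ⟨ct n e.1, fun l m => (z.gen 𝐂[n.1] (fun l m f => mem_centralizer_singleton_iff.2 (uL n m f (e.2 _ (mL m))).symm) m _ rfl :)⟩).imp
      (QuotientGroup.eq_one_iff _).2 (QuotientGroup.eq_one_iff (t₁ * n)).2
  have t2 : π t₁ * π t₁ = 1 := by rw [← map_mul, show t₁ * t₁ = 1 from Subtype.ext z.t2, map_one]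
  have s' : S1 L' ((C.resTo _ hL).map π) (π t₁) ⊥ := ⟨⟨
    fun a b k h c e => (map_commutatorElement π (x a c) (x b e)).symm.trans (congrArg π (Subtype.ext (z.lac a b k h c e))),
    fun a c e => z.inj a c (o1 _ ((QuotientGroup.eq_one_iff (x a c)).1 e) (xx ..)),
    fun a b c d e => z.sep a b c d (congrArg Subtype.val (un (xD a c) (xx _ a c) (xx _ b d) e)), fun a c => mL (z.xL a c),
    fun H h => map_le_iff_le_comap.2 fun l m => by
      obtain ⟨l', p, e⟩ := z.gen ((H.comap π).map 𝐍(O).subtype) (fun l m e => ⟨⟨l, hN m⟩, h _ (mL m) (by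
        rw [← map_mul, ← map_one π]; exact congrArg π (Subtype.ext e)), rfl⟩) m
      exact Subtype.ext e ▸ p,
    t2, fun e => z.t1 (o1 t ((QuotientGroup.eq_one_iff t₁).1 e) z.t2),
    by rintro _ ⟨l, m, rfl⟩; exact congrArg π (a₁ := l * t₁) (a₂ := t₁ * l) (Subtype.ext (z.tL _ m)),
    fun ⟨l, m, e⟩ => z.nm (by
      have p : t⁻¹ * l.1 ∈ O := π1.1 e.symm
      have := pow_mem (show l.1 ∈ L from m) (2 * n + 1)
      rwa [← mul_inv_cancel_left t l.1, (Commute.symm (z.Ok _ p).1).mul_pow, po z.t2, hr _ p, mul_one] at this),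
    fun g e => by
      obtain ⟨n, rfl⟩ := su g
      exact le_normalizer_map π (mem_map_of_mem π (le_normalizer_comap _ (z.cn _ (ct n e)))),
    fun g e _ => (K g e).imp_right fun p => mul_left_cancel (p.trans t2.symm),
    fun a b a' b' p q => let ⟨n, m, w, w1, w2, w3, e⟩ := z.mon a b a' b' p q
      ⟨_, mL m, w, w1, w2, w3, fun k c => congrArg π (a₁ := ⟨n, hN m⟩ * x k c * (⟨n, hN m⟩ : 𝐍(O))⁻¹) (a₂ := x (w k) c) (Subtype.ext (e k c))⟩,
    fun a b k h g e f => by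
      obtain ⟨n, rfl⟩ := su g
      obtain ⟨u, v, w, q⟩ := z.cen a b k h n (ct n e) fun l m m' l2 => uL n m.1 l2 (f _ (m0 m) (m0 m') (by
        rw [← map_mul, ← map_one π]; exact congrArg π (Subtype.ext l2)))
      refine ⟨u, v, w, congrArg π (a₁ := x a u * x b v * x k w * n * t₁) (a₂ := t₁ * (x a u * x b v * x k w * n)) (Subtype.ext q.1), ?_⟩
      rintro _ ⟨l, m, rfl⟩
      exact congrArg π (a₁ := x a u * x b v * x k w * n * l) (a₂ := l * (x a u * x b v * x k w * n)) (Subtype.ext (q.2 _ m))⟩,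
    by simp, by simpa using DB.K0.one, by simpa using K⟩
  obtain ⟨Y, z'⟩ := s'.exists_zp r (y := π ⟨y, hO⟩) ⟨by
      rintro _ ⟨⟨l, m, rfl⟩, e⟩
      exact congrArg π (a₁ := ⟨y, hO⟩ * l) (a₂ := l * (⟨y, hO⟩ : 𝐍(O)))
        (Subtype.ext (hy.cx _ ⟨m, fun c => congrArg Subtype.val (uc l (xD θ c) (xx _ θ c) (e c))⟩)),
    congrArg π (a₁ := ⟨y, hO⟩ * t₁ * _⁻¹) (a₂ := t₁ * x θ 1) (Subtype.ext hy.ct)⟩
  obtain ⟨ν, y, z'⟩ := (z'.zr r).zd r θ
  let D : Subgroup 𝐍(O) := 𝐂(O).subgroupOf 𝐍(O)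
  have nD : D.Normal := normal_subgroupOf_centralizer_normalizer _
  have y2 : ∀ k a, y k a * y k a = 1 := fun k a => by
    rw [← z'.add, show a + a = ⟨0, 0⟩ from QuadraticAlgebra.ext (CharTwo.add_self_eq_zero _) (CharTwo.add_self_eq_zero _), z'.ext]; simp
  have ex : ∀ k a, ∃ d ∈ D, d * d = 1 ∧ π d = y k a := fun k a => by
    have : (D.map π).Normal := nD.map _ su
    obtain ⟨d, p, e⟩ : y k a ∈ D.map π := by
      obtain ⟨b, s, h⟩ := r.exs k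
      rw [← mul_one a, ← z'.ylac _ _ _ h, show (1 : QA ν) = ⟨1, 0⟩ from rfl, z'.ext, commutatorElement_def]
      have m := mem_map_of_mem π (show x s 1 ∈ D from xD s 1)
      exact mul_mem (this.conj_mem _ m _) (inv_mem m)
    refine ⟨d ^ (2 * n + 1), pow_mem p _, Subtype.ext ?_, by rw [map_pow, e, po (y2 k a)]⟩
    rw [← (Commute.refl d).mul_pow, coe_pow]
    exact hr _ ((QuotientGroup.eq_one_iff (d * d)).1 (show π (d * d) = 1 by rw [map_mul, e, y2]))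
  choose y₁ hD h2 hπ using ex
  have cm (k l : Φ) (h : 0 ≤ R.pair k l) (a b : QA ν) : Commute (y₁ k a) (y₁ l b) := uc _ (hD _ _) (h2 _ _) (by rw [hπ, hπ, z'.com k l h])
  refine ⟨ν, fun k a => y₁ k a, z, fun k a b => congrArg Subtype.val (un (b := y₁ k a * y₁ k b) (hD _ _) (h2 _ _) ?_ (by rw [map_mul, hπ, hπ, hπ, z'.add])),
    fun k l h a b => congrArg Subtype.val (cm k l h a b).eq, fun a b k h c e => congrArg Subtype.val (a₁ := ⁅y₁ a c, y₁ b e⁆) ?_,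
    fun k c => congrArg Subtype.val (un (b := x k c) (hD _ _) (h2 _ _) (xx _ k c) ((hπ _ _).trans (z'.ext k c))),
    fun k a => (congrArg _ z.it.symm).trans (congrArg Subtype.val (un (hD _ _) (h2 _ _) (cj2 (h2 k a) t₁) ?_).symm), fun o p k a => hD k a o p,
    fun k a l m => congrArg Subtype.val (uc ⟨l, hN m.1⟩ (hD _ _) (h2 k a) (by rw [hπ, z'.yc k a _ (m0 m)])).symm,
    fun l m a b e c => congrArg Subtype.val (un (hD _ _) (h2 b c) (cj2 (h2 a c) ⟨l, hN m⟩) (by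
      rw [map_mul, map_mul, map_inv, hπ, hπ, z'.eqv _ (mL m) a b fun d =>
        congrArg π (a₁ := ⟨l, hN m⟩ * x a d * (⟨l, hN m⟩ : 𝐍(O))⁻¹) (a₂ := x b d) (Subtype.ext (e d))])).symm⟩
  · rw [(cm k k (by simp) b a).mul_mul_mul_comm, h2, h2, one_mul]
  · have q : π (y₁ k (c * e)) = π ⁅y₁ a c, y₁ b e⁆ := by rw [map_commutatorElement, hπ, hπ, hπ, z'.ylac a b k h]
    refine (un (hD _ _) (h2 _ _) ?_ q).symm
    have : Commute (y₁ a c) ⁅y₁ a c, y₁ b e⁆ := by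
      rw [← mul_inv_cancel_left (y₁ k (c * e)) ⁅_, _⁆]
      exact (cm k a (by simp [(r.pair_ab h).1]) _ _).symm.mul_right (Subtype.ext (hD _ _ _ (π1.1 q)).symm)
    nth_rw 1 [← mul_inv_eq_iff_eq_mul.2 this]
    simp [commutatorElement_def, mul_assoc, inv_eq_of_mul_eq_one_left (h2 a c), ← mul_assoc (y₁ a c) (y₁ a c), h2]
  · rw [map_mul, map_mul, map_inv, hπ, hπ, s'.it, z'.ct]

theorem St.zd (r : RS R) (z : St L C t) (hy : E L C t θ y 1) : ∃ O ν y, ZD L C t O ν y :=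
  let ⟨O, s, h⟩ := z.s1 r hy; ⟨O, s.zd r hy h⟩

namespace ZD
variable {ν : F} {y : Φ → QA ν → G} {N : Subgroup G} (r : RS R) (z : ZD L C t O ν y)
include r z

omit r in
theorem y0 (k : Φ) : y k 0 = 1 := (z.ext k 0).trans (C.x_zero k)
omit r in
theorem y2 (k : Φ) (a : QA ν) : y k a * y k a = 1 := by
  rw [← z.add, ← z.y0 k]; congr 1; ext <;> simp [CharTwo.add_self_eq_zero]
omit r in
theorem ymul (k : Φ) (a b c d : F) : y k ⟨a, b⟩ * y k ⟨c, d⟩ = y k ⟨a + c, b + d⟩ := (z.add ..).symm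
omit r in
theorem ct' (k : Φ) (c d : F) : t * y k ⟨c, d⟩ * t = y k ⟨c + d, d⟩ := by
  rw [z.ct, QuadraticAlgebra.star_mk, one_mul, CharTwo.neg_eq]

omit r in
theorem e_y (k : Φ) (c d : F) : E L C t k (y k ⟨c, d⟩) d := ⟨z.yc k _, by
  rw [inv_eq_of_mul_eq_one_left (z.y2 ..), ← z.tt (_ * t), ← mul_assoc t (y ..), z.ct', mul_assoc, z.ymul, ← z.ext,
    CharTwo.add_self_eq_zero, add_right_comm, CharTwo.add_self_eq_zero, zero_add]⟩
omit r in
theorem y_ne (k : Φ) (c : F) (hd : d ≠ 0) : y k ⟨c, d⟩ * t ≠ t * y k ⟨c, d⟩ := fun h => by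
  have := (z.e_y k c d).ct
  rw [h, mul_inv_cancel_right, left_eq_mul] at this
  exact hd (z.inj _ _ this)
/-- `p = y k ⟨0, d⟩`; `cent1` for `p⁻¹ g`: `g = y k ⟨c, d⟩ κ`, `κ ∈ O` (then `κ² = 1`) or `t κ ∈ O` (then `x_k(d) ∈ O`). -/
theorem can (g2 : g * g = 1) (e : E L C t k g d) (hd : d ≠ 0) : ∃ c, g = y k ⟨c, d⟩ := by
  have e' := (z.e_y k 0 d).mul r z.toSt e
  rw [CharTwo.add_self_eq_zero] at e'
  obtain ⟨c, hc⟩ := z.toSt.cent1 r (mul_inv_eq_iff_eq_mul.1 (e'.ct.trans (by simp))) fun l m _ => e'.cx l m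
  rw [← z.ext, ← mul_assoc, z.ymul, add_zero, zero_add] at hc
  have i := z.y2 k ⟨c, d⟩
  obtain ⟨n, hn⟩ := GSt.SLa.odd_pow z.odd
  refine ⟨c, ?_⟩
  have eg : g = y k ⟨c, d⟩ * (y k ⟨c, d⟩ * g) := by rw [← mul_assoc, i, one_mul]
  generalize y k ⟨c, d⟩ * g = κ at hc eg
  rcases z.K0 κ hc with h | h
  · have cm : Commute κ (y k ⟨c, d⟩) := z.cO κ h _ _
    rw [eg, cm.mul_mul_mul_comm, i, one_mul] at g2
    rw [eg, ← GSt.SLa.pow_odd g2 n, hn κ h, mul_one]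
  · exfalso
    rw [← z.tt κ] at eg
    generalize t * κ = o at h eg
    have c1 : Commute o (y k ⟨c, d⟩) := z.cO o h _ _
    have c2 : Commute o t := (z.Ok o h).1
    rw [eg, ← mul_assoc (y ..) t o, (c1.mul_right c2).mul_mul_mul_comm, mul_assoc (y ..) t, ← mul_assoc t, z.ct', z.ymul, ← add_assoc,
      CharTwo.add_self_eq_zero, CharTwo.add_self_eq_zero, zero_add, z.ext] at g2
    have := hn _ (inv_mem (mul_mem h h))
    rw [← eq_inv_of_mul_eq_one_left g2, GSt.SLa.pow_odd (xx ..)] at this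
    exact hd (z.inj _ _ this)
/-- `E.conj`, `can`; `d = 0`: `ext`.  `φ d ≠ 0` for `d ≠ 0` (`inj`). -/
theorem nrm {φ : F → F} (hg : g * t = t * g) (e : ∀ c, g * C.x a c * g⁻¹ = C.x b (φ c)) (u : QA ν) : ∃ v, g * y a u * g⁻¹ = y b v := by
  obtain ⟨c, d⟩ := u
  by_cases hd : d = 0
  · exact ⟨_, by rw [hd, z.ext, e, ← z.ext]⟩
  exact (z.can r (by rw [conj_mul, z.y2]; simp) ((z.e_y a c d).conj z.toSt hg e) fun h => hd (z.inj a d (by
    have := e d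
    rwa [h, C.x_zero, conj_eq_one_iff] at this))).elim fun _ h => ⟨_, h⟩
/-- `h = h_δ(c)`, `a = b' + s` with `(δ, a) = (δ, s) = 1`, `(δ, b') = 0` (`exs`, `plane`): `h ∈ C0 b'`, `h [y b' u, x_s(1)] h⁻¹ = [y b' u, x_s(c)] = y a (u c)`.
Then `eqv` for `l h⁻¹`. -/
theorem eqv' (hl : l ∈ L) {c : F} (hc : c ≠ 0) (e : ∀ d, l * C.x a d * l⁻¹ = C.x b (c * d)) (u : QA ν) :
    l * y a u * l⁻¹ = y b (⟨c, 0⟩ * u) := by
  obtain ⟨b', s, h0⟩ := r.exs a
  obtain ⟨δ, δ1, δ2⟩ := r.plane _ _ (r.pair_ab h0).2.1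
  have δ3 := padd h0 δ
  have hh := z.le (C.H_le_grp (C.h_mem_H δ (Units.mk0 c hc)))
  have hc' := C.h_conj δ
  have h4 : C.h δ (Units.mk0 c hc) ∈ C0 L C b' := ⟨hh, fun e => by rw [← mul_inv_eq_iff_eq_mul, hc', show R.pair δ b' = 0 by omega]; simp⟩
  have h5 (e : F) : C.h δ (Units.mk0 c hc) * C.x a e * (C.h δ (Units.mk0 c hc))⁻¹ = C.x a (c * e) := by simp [hc', δ1]
  have h6 : C.h δ (Units.mk0 c hc) * C.x s 1 * (C.h δ (Units.mk0 c hc))⁻¹ = C.x s c := by simp [hc', δ2]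
  generalize C.h δ (Units.mk0 c hc) = h at hh h4 h5 h6
  have k : h * y a u * h⁻¹ = y a (⟨c, 0⟩ * u) := by
    rw [mul_comm _ u, ← z.ylac _ _ _ h0, z.ext, ← h6, ← mul_one u, ← z.ylac _ _ _ h0, mul_one, conjugate_commutatorElement, ← z.yc _ _ _ h4,
      mul_inv_cancel_right, show (1 : QA ν) = ⟨1, 0⟩ from rfl, z.ext]
  rw [← z.eqv _ (mul_mem hl (inv_mem hh)) a b (fun d => by
    rw [← mul_inv_cancel_left₀ hc d, ← e, ← h5]; group), ← k]
  group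
omit r in
theorem hc (θ : Φ) (g2 : g * g = 1) (h : K0 L t g) (h' : ∀ a, g * y θ a = y θ a * g) : g = 1 :=
  (z.kinv g h g2).resolve_right fun e => z.y_ne θ 0 one_ne_zero (e ▸ (h' _).symm)
theorem mem_N [N.Normal] (hN : L ≤ N) (k : Φ) (a : QA ν) : y k a ∈ N := by
  obtain ⟨b, s, e⟩ := r.exs k
  rw [← mul_one a, ← z.ylac _ _ _ e, commutatorElement_def]
  have : y s 1 ∈ N := hN ((z.ext s 1).symm ▸ z.xL s 1)
  exact mul_mem (Normal.conj_mem ‹_› _ this _) (inv_mem this)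
/-- The lemma `cm` and the case `j = -k` in `ES.ZD.sp`. -/
theorem sp_comm {c : F} (h : c ^ 2 = ν + 1 * c) (k j : Φ) (a d : F) : Commute (y k ⟨a * c, a⟩) (y j ⟨d * (1 + c), d⟩) := by
  have h2 : (2 : F) = 0 := CharTwo.two_eq_zero
  have cm : ∀ k j, j ≠ R.neg k → ∀ a d, Commute (y k ⟨a * c, a⟩) (y j ⟨d * (1 + c), d⟩) := fun k j hj a d => by
    by_cases p : 0 ≤ R.pair k j
    · exact z.com k j p _ _
    have e := RS.add (a := k) (b := j) (by
      rcases r.cases k j with e | e | e | e | e <;> first | contradiction | omega | simp [e] at p)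
    rw [← commutatorElement_eq_one_iff_commute, z.ylac _ _ _ e, ← z.y0 (R.refl k j)]
    congr 1; ext <;> simp
    · linear_combination a * d * h + a * d * (ν + c) * h2
    · linear_combination a * d * (1 + c) * h2
  by_cases hj : j = R.neg k
  · obtain ⟨b, s, e⟩ := r.exs k
    have p := r.pair_ab e
    have n : ∀ b, R.pair k b = 1 → j ≠ R.neg b := fun b p e => by
      rw [R.neg_injective (hj.symm.trans e)] at p; simp at p
    have c1 := cm b j (n b p.1) a d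
    have c2 := cm s j (n s p.2.1) 1 d
    rw [show y k ⟨a * c, a⟩ = ⁅y b ⟨a * c, a⟩, y s ⟨1 * c, 1⟩⁆ by
      rw [z.ylac _ _ _ e]; congr 1; ext <;> simp
      · linear_combination -a * h - a * ν * h2
      · linear_combination a * c * h2]
    exact ((c1.mul_left c2).mul_left c1.inv_left).mul_left c2.inv_left
  · exact cm k j hj a d
end ZD

end Cfsg.Lib.DB
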